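/-
`p`-subgroups acting on the subnormal subgroups of `F*(H)` when `O_p(H) = 1`:
`L = [L, Y] C_L(Y)`, hence `[L, Y] = [L, Y, Y]`.
-/
import Cfsg.Agent.H7.FStar
import Cfsg.Agent.H1.CoprimeAction
import Cfsg.Agent.H2.CoprimeAbelian

set_option autoImplicit false

open scoped commutatorElement
open Cfsg Cfsg.Comp

namespace H7

variable {G : Type*} [Group G] [Finite G] {p : ℕ} [Fact p.Prime]

omit [Finite G] [Fact p.Prime] in
/-- If `K = [K, A] C_K(A)` then `[K, A, A] = [K, A]`. -/
theorem commutator_commutator_of_sup {A K : Subgroup G}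
    (hAK : A ≤ Subgroup.normalizer (K : Set G))
    (h : ⁅K, A⁆ ⊔ (K ⊓ Subgroup.centralizer (A : Set G)) = K) :
    ⁅⁅K, A⁆, A⁆ = ⁅K, A⁆ := by
  refine le_antisymm (Subgroup.commutator_mono (H1.commutator_le_left_of_le_normalizer hAK)
    le_rfl) ?_
  rw [Subgroup.commutator_le]
  intro k hk a ha
  rw [← h] at hk
  obtain ⟨n, hn, c, hc, rfl⟩ := H1.exists_mul_of_mem_sup
    ((inf_le_left : K ⊓ Subgroup.centralizer (A : Set G) ≤ K).trans
      H1.left_le_normalizer_commutator) hk
  have hca := Subgroup.mem_centralizer_iff.mp (Subgroup.mem_inf.mp hc).2 a ha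
  have h1 : ⁅n * c, a⁆ = ⁅n, a⁆ := by
    simp only [commutatorElement_def, mul_inv_rev]
    calc n * c * a * (c⁻¹ * n⁻¹) * a⁻¹ = n * (c * a) * c⁻¹ * n⁻¹ * a⁻¹ := by group
      _ = n * (a * c) * c⁻¹ * n⁻¹ * a⁻¹ := by rw [hca]
      _ = n * a * n⁻¹ * a⁻¹ := by group
  rw [h1]
  exact Subgroup.commutator_mem_commutator hn ha

theorem not_dvd_card_fitting (hO : pCore p G = ⊥) : ¬ p ∣ Nat.card (fittingSubgroup G) := by
  refine fun hd => not_dvd_card_pPrimeCore p (G := G) (hd.trans (Subgroup.card_dvd_of_le ?_))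
  rw [fitting_eq_iSup_pCore]
  refine iSup_le fun q => ?_
  have := Fact.mk q.2
  by_cases hqp : (q : ℕ) = p
  · rw [hqp, hO]
    exact bot_le
  · refine le_pPrimeCore inferInstance ?_
    obtain ⟨k, hk⟩ := IsPGroup.iff_card.mp (pCore_isPGroup (G := G) (q : ℕ))
    rw [hk]
    exact Nat.Coprime.pow_left k ((Nat.coprime_primes q.2 Fact.out).mpr hqp)

/-- Elements of order prime to `p` of `L Y` lie in `L`. -/
theorem mem_of_mem_sup_pgroup {L Y : Subgroup G} (hY : IsPGroup p Y)
    (hYL : Y ≤ Subgroup.normalizer (L : Set G)) {x : G} (hx : x ∈ L ⊔ Y)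
    (hxo : ¬ p ∣ orderOf x) : x ∈ L := by
  obtain ⟨l, hl, y, hy, rfl⟩ := H1.exists_mul_of_mem_sup hYL hx
  set M := L ⊔ Y
  set Lm := L.subgroupOf M
  have : Lm.Normal :=
    Subgroup.normal_subgroupOf_of_le_normalizer (sup_le Subgroup.le_normalizer hYL)
  set f := QuotientGroup.mk' Lm
  set x' : M := ⟨l * y, hx⟩
  set y' : M := ⟨y, Subgroup.mem_sup_right hy⟩
  set l' : M := ⟨l, Subgroup.mem_sup_left hl⟩
  have hfy : f x' = f y' := by
    rw [show x' = l' * y' from Subtype.ext rfl, map_mul,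
      show f l' = 1 from (QuotientGroup.eq_one_iff l').mpr hl, one_mul]
  obtain ⟨k, hk⟩ := hY ⟨y, hy⟩
  have h1 : f x' ^ p ^ k = 1 := by
    rw [hfy, ← map_pow, show y' ^ p ^ k = 1 from
      Subtype.ext (congrArg (fun z : Y => (z : G)) hk), map_one]
  have h2 : f x' ^ orderOf (l * y) = 1 := by
    rw [← map_pow, show x' ^ orderOf (l * y) = 1 from Subtype.ext (pow_orderOf_eq_one (l * y)),
      map_one]
  exact (QuotientGroup.eq_one_iff x').mp (eq_one_of_pow_eq_one h1 hxo h2)

/-- A `p`-group `Y` acting on a subnormal subgroup `L` of `F*(H)`, where `O_p(H) = 1`: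
`L = [L, Y] C_L(Y)`. -/
theorem cover_of_subnormal {H L Y : Subgroup G} (hO : pCore p H = ⊥) (hY : IsPGroup p Y)
    (hYH : Y ≤ Subgroup.normalizer (H : Set G))
    (hLF : L ≤ (generalizedFittingSubgroup H).map H.subtype)
    (hLsn : (L.subgroupOf H).IsSubnormal) (hYL : Y ≤ Subgroup.normalizer (L : Set G)) :
    ⁅L, Y⁆ ⊔ (L ⊓ Subgroup.centralizer (Y : Set G)) = L := by
  refine le_antisymm (sup_le (H1.commutator_le_left_of_le_normalizer hYL) inf_le_left) ?_
  have hLH : L ≤ H := hLF.trans (Subgroup.map_subtype_le _)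
  set L' := L.subgroupOf H
  have hmapL : L'.map H.subtype = L := Subgroup.map_subgroupOf_eq_of_le hLH
  have hL'F : L' ≤ generalizedFittingSubgroup H := fun x hx => by
    obtain ⟨y, hy, hyx⟩ := hLF (show (x : G) ∈ L from hx)
    exact (Subtype.ext hyx : y = x) ▸ hy
  -- the Fitting part
  set F₀ := (fittingSubgroup H).map H.subtype ⊓ L
  have hF₀ : Y ≤ Subgroup.normalizer (F₀ : Set G) :=
    inf_le_normalizer (hYH.trans (le_normalizer_map_subtype _)) hYL
  have hF₀cop : (Nat.card Y).Coprime (Nat.card F₀) := by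
    obtain ⟨k, hk⟩ := IsPGroup.iff_card.mp hY
    rw [hk]
    refine Nat.Coprime.pow_left k ((Fact.out : p.Prime).coprime_iff_not_dvd.mpr fun hd => ?_)
    refine not_dvd_card_fitting hO (hd.trans ?_)
    rw [← card_map_subtype (fittingSubgroup H)]
    exact Subgroup.card_dvd_of_le inf_le_left
  have hYsol : Group.IsSolvable Y :=
    have := hY.isNilpotent
    inferInstance
  have hFcov : F₀ ≤ ⁅L, Y⁆ ⊔ (L ⊓ Subgroup.centralizer (Y : Set G)) := by
    refine (H1.commutator_sup_centralizer_eq hF₀ hF₀cop (.inl hYsol)).ge.trans ?_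
    exact sup_le_sup (Subgroup.commutator_mono inf_le_right le_rfl) (inf_le_inf_right _ inf_le_right)
  -- the layer part
  set M := L ⊔ Y
  set Ym := Y.subgroupOf M
  set EM := (layer M).map M.subtype
  have hEL : EM ≤ L := by
    refine Subgroup.map_le_iff_le_comap.mpr (layer_le_iff.mpr fun K hK => ?_)
    refine (perfect_le_closure_not_dvd p (isComponent_perfect hK)).trans
      ((Subgroup.closure_le _).mpr ?_)
    rintro g ⟨-, hgo⟩
    exact mem_of_mem_sup_pgroup hY hYL g.2 (by rwa [Subgroup.coe_subtype, Subgroup.orderOf_coe])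
  have hEcov : EM ≤ ⁅L, Y⁆ ⊔ (L ⊓ Subgroup.centralizer (Y : Set G)) := by
    have h1 := (layer_eq_centralizer_sup_commutator Ym).1
    calc EM = ((layer M ⊓ Subgroup.centralizer (Ym : Set M)) ⊔ ⁅layer M, Ym⁆).map M.subtype :=
          congrArg (Subgroup.map M.subtype) h1
      _ ≤ _ := by
        rw [Subgroup.map_sup, sup_comm, Subgroup.map_commutator,
          Subgroup.map_subgroupOf_eq_of_le (le_sup_right : Y ≤ M)]
        refine sup_le_sup (Subgroup.commutator_mono hEL le_rfl) ?_
        rintro _ ⟨x, ⟨hx1, hx2⟩, rfl⟩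
        refine ⟨hEL (Subgroup.mem_map_of_mem _ hx1), Subgroup.mem_centralizer_iff.mpr fun y hy => ?_⟩
        exact congrArg Subtype.val (Subgroup.mem_centralizer_iff.mp hx2
          ⟨y, Subgroup.mem_sup_right hy⟩ hy)
  -- `L` is covered by the two parts
  set Lm := L.subgroupOf M
  have hLmn : Lm.Normal :=
    Subgroup.normal_subgroupOf_of_le_normalizer (sup_le Subgroup.le_normalizer hYL)
  let e : L' ≃* Lm :=
    (Subgroup.subgroupOfEquivOfLe hLH).trans (Subgroup.subgroupOfEquivOfLe le_sup_left).symm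
  have hmain : L' ≤ (EM ⊔ F₀).comap H.subtype := by
    refine (subnormal_le_fStar hLsn hL'F).trans (sup_le ?_ ?_)
    · rintro _ ⟨x, hx, rfl⟩
      refine Subgroup.mem_sup_left ?_
      have h1 : e x ∈ layer Lm := layer_le_map_equiv e ⟨x, hx, rfl⟩
      exact ⟨(e x : M), layer_map_subtype_le hLmn.isSubnormal ⟨e x, h1, rfl⟩, rfl⟩
    · rintro x ⟨hx1, hx2⟩
      exact Subgroup.mem_sup_right ⟨Subgroup.mem_map_of_mem _ hx1, hx2⟩
  have := (Subgroup.map_le_iff_le_comap.mpr hmain).trans (sup_le hEcov hFcov)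
  rwa [hmapL] at this

theorem commutator_commutator_of_subnormal {H L Y : Subgroup G} (hO : pCore p H = ⊥)
    (hY : IsPGroup p Y) (hYH : Y ≤ Subgroup.normalizer (H : Set G))
    (hLF : L ≤ (generalizedFittingSubgroup H).map H.subtype)
    (hLsn : (L.subgroupOf H).IsSubnormal) (hYL : Y ≤ Subgroup.normalizer (L : Set G)) :
    ⁅⁅L, Y⁆, Y⁆ = ⁅L, Y⁆ :=
  commutator_commutator_of_sup hYL (cover_of_subnormal hO hY hYH hLF hLsn hYL)

theorem fStar_top_map :
    (generalizedFittingSubgroup (⊤ : Subgroup G)).map (⊤ : Subgroup G).subtype =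
      generalizedFittingSubgroup G := by
  rw [← fStar_inf_normal, inf_top_eq]

theorem pCore_subnormal_eq_bot (hO : pCore p G = ⊥) {K : Subgroup G} (hK : K.IsSubnormal) :
    pCore p K = ⊥ := by
  have h := pCore_map_subtype_le p hK
  rw [hO] at h
  exact (Subgroup.map_eq_bot_iff_of_injective _ Subtype.coe_injective).mp (le_bot_iff.mp h)

/-- The case `H = G`. -/
theorem cover (hO : pCore p G = ⊥) {L Y : Subgroup G} (hY : IsPGroup p Y)
    (hLF : L ≤ generalizedFittingSubgroup G) (hLsn : L.IsSubnormal)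
    (hYL : Y ≤ Subgroup.normalizer (L : Set G)) :
    ⁅L, Y⁆ ⊔ (L ⊓ Subgroup.centralizer (Y : Set G)) = L :=
  cover_of_subnormal (H := ⊤) (pCore_subnormal_eq_bot hO Subgroup.IsSubnormal.top) hY
    le_normalizer_of_normal (hLF.trans fStar_top_map.ge) hLsn.subgroupOf hYL

theorem commutator_commutator (hO : pCore p G = ⊥) {L Y : Subgroup G} (hY : IsPGroup p Y)
    (hLF : L ≤ generalizedFittingSubgroup G) (hLsn : L.IsSubnormal)
    (hYL : Y ≤ Subgroup.normalizer (L : Set G)) :
    ⁅⁅L, Y⁆, Y⁆ = ⁅L, Y⁆ :=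
  commutator_commutator_of_sup hYL (cover hO hY hLF hLsn hYL)

theorem eq_bot_of_commutator_fStar (hO : pCore p G = ⊥) {Y : Subgroup G} (hY : IsPGroup p Y)
    (h : ⁅generalizedFittingSubgroup G, Y⁆ = ⊥) : Y = ⊥ := by
  set S := generalizedFittingSubgroup G
  set C := Subgroup.centralizer (S : Set G)
  have hYC : Y ≤ C := by
    rw [← Subgroup.commutator_eq_bot_iff_le_centralizer, Subgroup.commutator_comm]
    exact h
  have hYn : (Y.subgroupOf C).Normal := by
    refine Subgroup.normal_subgroupOf_of_le_normalizer ?_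
    refine le_trans ?_ (Subgroup.centralizer_le_normalizer (Y : Set G))
    refine le_centralizer_of_commute fun x hx y hy => ?_
    exact commute_of_le_centralizer (centralizer_fStar_le.trans le_rfl |>.trans
      (Subgroup.le_centralizer_iff.mp (le_refl C))) hx (hYC hy)
  have hYs : Y.IsSubnormal :=
    Subgroup.IsSubnormal.step _ _ hYC (inferInstance : C.Normal).isSubnormal hYn
  exact le_bot_iff.mp ((le_pCore_of_subnormal hYs hY).trans hO.le)

/-- `[F*(G), Y] = [F*(K), Y]` for subnormal `K` containing `Y`. -/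
theorem commutator_fStar_subnormal (hO : pCore p G = ⊥) {Y : Subgroup G} (hY : IsPGroup p Y)
    {K : Subgroup G} (hK : K.IsSubnormal) (hYK : Y ≤ K) :
    ⁅generalizedFittingSubgroup G, Y⁆ = ⁅(generalizedFittingSubgroup K).map K.subtype, Y⁆ := by
  set S := generalizedFittingSubgroup G
  have hSS : ⁅⁅S, Y⁆, Y⁆ = ⁅S, Y⁆ :=
    commutator_commutator hO hY le_rfl (inferInstance : S.Normal).isSubnormal
      le_normalizer_of_normal
  have hle : (generalizedFittingSubgroup K).map K.subtype ≤ S := by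
    rw [generalizedFittingSubgroup, Subgroup.map_sup]
    exact sup_le ((layer_map_subtype_le hK).trans layer_le_fStar)
      ((fitting_map_subtype_le hK).trans fitting_le_fStar)
  refine le_antisymm ?_ (Subgroup.commutator_mono hle le_rfl)
  have hin : ∀ K' : Subgroup G, K'.IsSubnormal → Y ≤ K' → ⁅S, Y⁆ ≤ K' := by
    intro K' hK'
    induction hK' with
    | top => exact fun _ => le_top
    | step A B hAB _ hn ih =>
      intro hYA
      have hBA : B ≤ Subgroup.normalizer (A : Set G) :=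
        (Subgroup.normal_subgroupOf_iff_le_normalizer hAB).mp hn
      rw [← hSS]
      exact (Subgroup.commutator_mono (ih (hYA.trans hAB)) hYA).trans
        (by rw [Subgroup.commutator_comm]; exact H1.commutator_le_left_of_le_normalizer hBA)
  have hSK : ⁅S, Y⁆ ≤ S ⊓ K :=
    le_inf (Subgroup.commutator_le_left _ _) (hin K hK hYK)
  have hFK : S ⊓ K ≤ (generalizedFittingSubgroup K).map K.subtype := by
    refine (subnormal_le_fStar (Subgroup.IsSubnormal.inf
      (inferInstance : S.Normal).isSubnormal hK) inf_le_left).trans (sup_le ?_ ?_)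
    · refine Subgroup.map_le_iff_le_comap.mpr (layer_le_iff.mpr fun L hL => ?_)
      have hsn : (S ⊓ K).IsSubnormal :=
        Subgroup.IsSubnormal.inf (inferInstance : S.Normal).isSubnormal hK
      have h1 : IsComponent (L.map (S ⊓ K).subtype) := isComponent_map_subtype hsn hL
      have h2 : L.map (S ⊓ K).subtype ≤ K := (Subgroup.map_subtype_le _).trans inf_le_right
      rw [← Subgroup.map_le_iff_le_comap]
      exact (Subgroup.map_subgroupOf_eq_of_le h2).ge.trans
        (Subgroup.map_mono ((le_layer (isComponent_subgroupOf h1 h2)).trans layer_le_fStar))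
    · exact (inf_le_inf_left _ inf_le_right).trans
        (fitting_inf_le.trans (Subgroup.map_mono fitting_le_fStar))
  rw [← hSS]
  exact Subgroup.commutator_mono (hSK.trans hFK) le_rfl

end H7
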