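import Cfsg.Agent.H7.U6Fibre3

/-!
The local data at `z`: the map to the forty-five points, its fibres, and the relations.
-/

set_option autoImplicit false
set_option maxRecDepth 100000
set_option linter.unusedSectionVars false

namespace H7.U6Fibre

open Cfsg H16.Fi24
open scoped commutatorElement

universe u

variable {G : Type u} [Group G] [Finite G] {z : G}
  {Q : Subgroup (Subgroup.centralizer ({z} : Set G))} [Q.Normal] {C : U6Ctx z Q}
  {u w x y : Subgroup.centralizer ({z} : Set G)} {i j : Fin 45}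

open scoped Classical in
/-- The point of an element. -/
noncomputable def ptOf (C : U6Ctx z Q) (v : G) : Fin 45 :=
  if h : ∃ i, ∃ hv : v ∈ Subgroup.centralizer ({z} : Set G), C.D.ρ ⟨v, hv⟩ = tv i then h.choose else 0

theorem ptOf_eq (hu : Over C u i) : ptOf C (u : G) = i := by
  have h : ∃ i, ∃ hv : (u : G) ∈ Subgroup.centralizer ({z} : Set G), C.D.ρ ⟨_, hv⟩ = tv i :=
    ⟨i, u.2, hu.rho⟩
  rw [ptOf, dif_pos h]
  obtain ⟨hv, e⟩ := h.choose_spec
  exact tv_inj (e.symm.trans hu.rho)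

theorem over_ptOf {v : G} (hv : v ∈ C.gperp) :
    ∃ u : Subgroup.centralizer ({z} : Set G), (u : G) = v ∧ Over C u (ptOf C v) := by
  obtain ⟨u, rfl, i, hu⟩ := exists_over hv
  exact ⟨u, rfl, by rwa [ptOf_eq hu]⟩

/-- A member exists over every point. -/
theorem exists_member (hu : ∃ v, v ∈ C.gperp) (p : Fin 45) :
    ∃ u : Subgroup.centralizer ({z} : Set G), Over C u p := by
  obtain ⟨v, hv⟩ := hu
  obtain ⟨u, -, i, hu⟩ := exists_over hv
  obtain ⟨g, hg, e⟩ := tv_trans i p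
  obtain ⟨h, hh, -, hρ⟩ := C.exists_cen hg
  exact ⟨h * u * h⁻¹, hu.conj hh (by rw [hρ, e])⟩

/-- Every member has its product with `z` outside the class. -/
theorem all_AT (hu : ∃ v ∈ C.gperp, ¬ IsConj z (v * z)) (hw : Over C w j) : AT w := by
  obtain ⟨v, hv, hv'⟩ := hu
  obtain ⟨u, rfl, i, hu⟩ := exists_over hv
  obtain ⟨g, hg, e⟩ := tv_trans j i
  obtain ⟨h, hh, -, hρ⟩ := C.exists_cen hg
  obtain ⟨r, hr, hrc, e'⟩ := fibre_orbit hu hv' (hw.conj hh (by rw [hρ, e]))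
  have h2 : AT (h * w * h⁻¹) := e' ▸ AT.conj hv' r
  have := h2.conj h⁻¹
  rwa [show h⁻¹ * (h * w * h⁻¹) * h⁻¹⁻¹ = w by group] at this

theorem Phi_one (C : U6Ctx z Q) : hf (pvec i) (C.D.Φ 1) = 0 := by
  rw [(C.D.eq_zero 1 (one_mem _)).2 (Or.inl rfl)]
  exact (tv_fix_iff i 0).1 (by rw [← sm_zero v2, (isUni_tv i).sm_comm, sm_zero, sm_zero]) |>.2

theorem same_comm (ha : AT u) (hu : Over C u i) (hw : Over C w i) : u * w = w * u := by
  have h := ha.fix_comm hu (hu.prod_mem hw) (same_fix hu hw)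
  rw [← mul_assoc u u, hu.sq, one_mul, hu.inv_eq] at h
  exact h.symm

theorem adj_comm (hax : AT x) (hx : Over C x i) (hay : AT y) (hy : Over C y j) (hA : H16.U6.Adj i j) :
    x * y = y * x := by
  have hij : i ≠ j := fun e => H16.U6.adj_irrefl j (e ▸ hA)
  have hc : tv j * tv i = tv i * tv j := ((tv_comm_iff i j).2 (Or.inr hA)).symm
  have h1 : Over C (y * x * y⁻¹) i := hx.conj hy.cen (by
    rw [hy.rho, mul_inv_eq_iff_eq_mul, hc])
  have h2 : Over C (x * y * x⁻¹) j := hy.conj hx.cen (by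
    rw [hx.rho, mul_inv_eq_iff_eq_mul, hc])
  obtain ⟨r, hr, hrc, e1⟩ := fibre_orbit hx hax h1
  obtain ⟨s, hs, hsc, e2⟩ := fibre_orbit hy hay h2
  obtain ⟨m1, p1⟩ := orbit_img hx hr hrc
  obtain ⟨m2, p2⟩ := orbit_img hy hs hsc
  rw [← e1] at m1 p1
  rw [← e2] at m2 p2
  have e3 : x * (y * x * y⁻¹) = (y * (x * y * x⁻¹))⁻¹ := by
    simp only [mul_inv_rev, hx.inv_eq, hy.inv_eq, mul_assoc]
  rw [e3, Phi_inv m2, p2] at p1
  have h0 := sm_pvec_sep p1.symm hij
  have e4 := (orbit_eq hax hx hr hrc (one_mem Q) (one_mem _)).2 (by rw [h0, Phi_one])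
  rw [← e1, one_mul, inv_one, mul_one] at e4
  exact (mul_inv_eq_iff_eq_mul.1 e4).symm

theorem comm_iff (hu : ∃ v ∈ C.gperp, ¬ IsConj z (v * z)) (hx : Over C x i) (hy : Over C y j) :
    x * y = y * x ↔ i = j ∨ H16.U6.Adj i j := by
  refine ⟨fun h => (tv_comm_iff i j).1 ?_, ?_⟩
  · rw [← hx.rho, ← hy.rho, ← _root_.map_mul, h, _root_.map_mul]
  · rintro (rfl | h)
    · exact same_comm (all_AT hu hx) hx hy
    · exact adj_comm (all_AT hu hx) hx (all_AT hu hy) hy h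

theorem conj_cube (s a b : Subgroup.centralizer ({z} : Set G)) :
    (s * a * s⁻¹ * (s * b * s⁻¹)) ^ 3 = s * (a * b) ^ 3 * s⁻¹ := by
  simp only [pow_succ, pow_zero, one_mul]
  group

theorem braid_rel (hu : ∃ v ∈ C.gperp, ¬ IsConj z (v * z)) (hx : Over C x i) (hy : Over C y j)
    (hn : x * y ≠ y * x) : (x * y) ^ 3 = 1 := by
  have hnA : ¬ (i = j ∨ H16.U6.Adj i j) := fun h => hn ((comm_iff hu hx hy).2 h)
  have hij : i ≠ j := fun h => hnA (Or.inl h)
  have h3 : (tv i * tv j) ^ 3 = 1 := tv_braid i j fun h => hnA ((tv_comm_iff i j).1 h)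
  set g := y * x * y with hg
  have hgi : g⁻¹ = g := by simp only [hg, mul_inv_rev, hx.inv_eq, hy.inv_eq, mul_assoc]
  have hy' : Over C (g * x * g⁻¹) j := hx.conj
    (by rw [hg]; exact mul_mem (mul_mem hy.cen hx.cen) hy.cen) (by
      rw [hg, _root_.map_mul, _root_.map_mul, hx.rho, hy.rho, mul_inv_rev, mul_inv_rev, tv_inv, tv_inv]
      calc tv j * tv i * tv j * tv i * (tv j * (tv i * tv j))
          = tv j * (tv i * tv j) ^ 3 := by simp only [pow_succ, pow_zero, one_mul, mul_assoc]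
        _ = tv j := by rw [h3, mul_one])
  have e : x * (g * x * g⁻¹) = (x * y) ^ 4 := by
    rw [hgi]; simp only [hg, pow_succ, pow_zero, one_mul, mul_assoc]
  have hq : (x * y) ^ 3 ∈ Q := by
    rw [← C.D.ker, MonoidHom.mem_ker, map_pow, _root_.map_mul, hx.rho, hy.rho, h3]
  have hq4 : ((x * y) ^ 3) ^ 4 = 1 := by
    set q := (x * y) ^ 3
    have h0 : C.D.Φ (q * q) = 0 := by rw [C.D.map_mul q hq q hq, W_add_self]
    have hqq : (q * q) * (q * q) = 1 := by
      rcases (C.D.eq_zero _ (mul_mem hq hq)).1 h0 with h | h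
      · rw [show q * q = 1 from Subtype.ext h, mul_one]
      · rw [show q * q = zc z from Subtype.ext h]
        exact Subtype.ext C.z_sq
    rw [show (4 : ℕ) = 2 * 2 from rfl, pow_mul, pow_two, pow_two]
    exact hqq
  have h1 : (x * (g * x * g⁻¹)) ^ 3 = 1 := by
    rw [e, ← pow_mul, show 4 * 3 = 3 * 4 from rfl, pow_mul, hq4]
  obtain ⟨r, hr, hrc, er⟩ := fibre_orbit hy' (all_AT hu hy') hy
  obtain ⟨v, v1, v2', v3'⟩ := exists_dual hij (hf (pvec j) (C.D.Φ r))
  obtain ⟨s, hs, rfl⟩ := C.D.surj v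
  have hsc := (mem_cen_iff hs).2 v1
  have ex := (orbit_eq (all_AT hu hx) hx hs hsc (one_mem Q) (one_mem _)).2 (by rw [v2', Phi_one])
  have ey := (orbit_eq (all_AT hu hy') hy' hs hsc hr hrc).2 v3'
  rw [one_mul, inv_one, mul_one] at ex
  rw [← er] at ey
  rw [← ex, ← ey, conj_cube, h1, mul_one, mul_inv_cancel]

theorem five_prod (hu : ∃ v ∈ C.gperp, ¬ IsConj z (v * z))
    {a b c d : Subgroup.centralizer ({z} : Set G)} (ha : Over C a i) (hb : Over C b i)
    (hc : Over C c i) (hd : Over C d i) (hab : a ≠ b) (hac : a ≠ c) (had : a ≠ d) (hbc : b ≠ c)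
    (hbd : b ≠ d) (hcd : c ≠ d) : a * b * c * d = zc z := by
  have hA := all_AT hu ha
  obtain ⟨r, hr, hrc, rfl⟩ := fibre_orbit ha hA hb
  obtain ⟨r', hr', hrc', rfl⟩ := fibre_orbit ha hA hc
  obtain ⟨r'', hr'', hrc'', rfl⟩ := fibre_orbit ha hA hd
  have ne0 : ∀ t ∈ Q, (t : G) ∈ C.cen → a ≠ t * a * t⁻¹ → hf (pvec i) (C.D.Φ t) ≠ 0 := by
    intro t ht htc hne h0
    refine hne ?_
    rw [(orbit_eq hA ha ht htc (one_mem Q) (one_mem _)).2 (by rw [h0, Phi_one]), one_mul, inv_one, mul_one]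
  obtain ⟨hsum, -, hB⟩ := value_facts _ _ _ (ne0 r hr hrc hab) (ne0 r' hr' hrc' hac)
    (ne0 r'' hr'' hrc'' had) (fun h => hbc ((orbit_eq hA ha hr hrc hr' hrc').2 h))
    (fun h => hbd ((orbit_eq hA ha hr hrc hr'' hrc'').2 h))
    (fun h => hcd ((orbit_eq hA ha hr' hrc' hr'' hrc'').2 h))
  have hd' : r'' * a * r''⁻¹ = r * (r' * a * r'⁻¹) * r⁻¹ := by
    rw [show r * (r' * a * r'⁻¹) * r⁻¹ = (r * r') * a * (r * r')⁻¹ by group]
    refine (orbit_eq hA ha hr'' hrc'' (mul_mem hr hr') (by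
      rw [Subgroup.coe_mul]; exact mul_mem hrc hrc')).2 ?_
    rw [hsum, C.D.map_mul r hr r' hr', hf_add]
  obtain ⟨hq, hqΦ⟩ := orbit_img ha hr' hrc'
  set b := r * a * r⁻¹ with hb'
  set c := r' * a * r'⁻¹ with hc'
  have hrq : r * (a * c) * r⁻¹ = a * c * zc z := by
    have hmem : r * (a * c) * r⁻¹ ∈ Q := Subgroup.Normal.conj_mem inferInstance _ hq r
    rcases C.D.eq_or_mul hmem hq (by rw [← C.D.conj r _ hq, C.D.rho_Q hr]; rfl) with h | h
    · exfalso
      have h0 := (C.D.comm r hr _ hq).1 (mul_inv_eq_iff_eq_mul.1 (Subtype.ext h))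
      rw [hqΦ, hf_two, hf_sm, hf_swap (pvec i) (C.D.Φ r), hB] at h0
      exact one_ne_zero h0
    · exact Subtype.ext h
  have e : r * c * r⁻¹ = b * (r * (a * c) * r⁻¹) := by
    rw [hb', show r * a * r⁻¹ * (r * (a * c) * r⁻¹) = r * (a * a * c) * r⁻¹ by group, ha.sq, one_mul]
  have cbc : c * b = b * c := same_comm (all_AT hu hc) hc hb
  have cac : c * a = a * c := same_comm (all_AT hu hc) hc ha
  rw [hd', e, hrq]
  calc a * b * c * (b * (a * c * zc z)) = a * b * (c * b) * (a * c) * zc z := by group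
    _ = a * (b * b) * (c * a) * c * zc z := by rw [cbc]; group
    _ = a * (a * c) * c * zc z := by rw [hb.sq, cac, mul_one]
    _ = (a * a) * (c * c) * zc z := by group
    _ = zc z := by rw [ha.sq, hc.sq, one_mul, one_mul]

theorem ncard_fibre (hu : ∃ v ∈ C.gperp, ¬ IsConj z (v * z)) (p : Fin 45) :
    Set.ncard {v | v ∈ C.gperp ∧ ptOf C v = p} = 4 := by
  obtain ⟨u, hup⟩ := exists_member (hu.imp fun _ h => h.1) p
  have hA := all_AT hu hup
  choose f hfQ hfc hfv using fun b => exists_lift (C := C) p b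
  let φ : F4 → G := fun b => ((f b * u * (f b)⁻¹ : Subgroup.centralizer ({z} : Set G)) : G)
  have hinj : Function.Injective φ := fun a b h => by
    rw [← hfv a, ← hfv b]
    exact (orbit_eq hA hup (hfQ a) (hfc a) (hfQ b) (hfc b)).1 (Subtype.ext h)
  have hset : {v | v ∈ C.gperp ∧ ptOf C v = p} = Set.range φ := by
    ext v
    constructor
    · rintro ⟨hv, hp⟩
      obtain ⟨w, rfl, hw⟩ := over_ptOf hv
      rw [hp] at hw
      obtain ⟨r, hr, hrc, e⟩ := fibre_orbit hup hA hw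
      exact ⟨_, congrArg Subtype.val (((orbit_eq hA hup (hfQ _) (hfc _) hr hrc).2 (hfv _)).trans e.symm)⟩
    · rintro ⟨b, rfl⟩
      exact ⟨(hup.conjQ (hfQ b) (hfc b)).mem, ptOf_eq (hup.conjQ (hfQ b) (hfc b))⟩
  rw [hset, Set.ncard_range_of_injective hinj]
  simp

theorem line (hu : ∃ v ∈ C.gperp, ¬ IsConj z (v * z)) (hx : Over C x i) (hy : Over C y i) (hne : x ≠ y)
    {g : G} (hg : g ∈ C.cen) (e : g * z * g⁻¹ = x) :
    ptOf C (g⁻¹ * z * g) = ptOf C (g⁻¹ * (y : G) * g) := by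
  obtain ⟨z', w', k, ez, ew, hz, hw, -⟩ := seen hx (all_AT hu hx) hy hne hg e
  rw [← ez, ← ew, ptOf_eq hz, ptOf_eq hw]

theorem mul_not_mem (hx : Over C x i) (hy : Over C y j) (hA : H16.U6.Adj i j)
    {m : Subgroup.centralizer ({z} : Set G)} (hm : m ∈ Q) : ((x * y * m : _) : G) ∉ C.dset := by
  intro hd
  have hρ : C.D.ρ (x * y * m) = tv i * tv j := by
    rw [_root_.map_mul, _root_.map_mul, hx.rho, hy.rho, C.D.rho_Q hm, mul_one]
  by_cases hz : ((x * y * m : _) : G) = z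
  · rw [show x * y * m = zc z from Subtype.ext hz, C.D.rho_Q C.D.zc_mem] at hρ
    refine H16.U6.adj_irrefl j ?_
    have : tv i = tv j := by rw [eq_comm, mul_eq_one_iff_eq_inv, tv_inv] at hρ; exact hρ
    exact tv_inj this ▸ hA
  · obtain ⟨k, hk⟩ := C.rho_dset _ ⟨hd, hz, cz_z _⟩
    exact tv_prod_ne i j hA k (hρ.symm.trans hk)

/-- A subgroup holding the products of members over one point holds the centraliser of the four-group
in `Q`. -/
theorem Qcen_le (hu : ∃ v ∈ C.gperp, ¬ IsConj z (v * z)) (H : Subgroup G)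
    (hH : ∀ (a b : Subgroup.centralizer ({z} : Set G)) (i : Fin 45), Over C a i → Over C b i →
      ((a * b : _) : G) ∈ H) {q : Subgroup.centralizer ({z} : Set G)} (hq : q ∈ Q)
    (hqc : (q : G) ∈ C.cen) : (q : G) ∈ H := by
  have hex := fun p => exists_member (C := C) (hu.imp fun _ h => h.1) p
  have img : ∀ p b, ∃ m ∈ Q, (m : G) ∈ H ∧ C.D.Φ m = sm b (pvec p) := by
    intro p b
    obtain ⟨a, ha⟩ := hex p
    obtain ⟨r, hr, hrc, rfl⟩ := exists_lift (C := C) p b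
    obtain ⟨h1, h2⟩ := orbit_img ha hr hrc
    exact ⟨_, h1, hH a _ p ha (ha.conjQ hr hrc), h2⟩
  -- `z`
  have hzH : z ∈ H := by
    obtain ⟨a, ha⟩ := hex 0
    have hA := all_AT hu ha
    choose f hfQ hfc hfv using fun b => exists_lift (C := C) 0 b
    have hb := fun b => ha.conjQ (hfQ b) (hfc b)
    have ne : ∀ b b', b ≠ b' → f b * a * (f b)⁻¹ ≠ f b' * a * (f b')⁻¹ := fun b b' hne e => by
      have := (orbit_eq hA ha (hfQ b) (hfc b) (hfQ b') (hfc b')).1 e
      rw [hfv, hfv] at this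
      exact hne this
    have h5 := five_prod hu (hb 0) (hb (1, 0)) (hb (0, 1)) (hb (1, 1)) (ne _ _ (by decide))
      (ne _ _ (by decide)) (ne _ _ (by decide)) (ne _ _ (by decide)) (ne _ _ (by decide))
      (ne _ _ (by decide))
    rw [mul_assoc] at h5
    show ((zc z : Subgroup.centralizer ({z} : Set G)) : G) ∈ H
    rw [← h5]
    exact mul_mem (hH _ _ 0 (hb _) (hb _)) (hH _ _ 0 (hb _) (hb _))
  obtain ⟨m0, q0, h0, p0⟩ := img 0 ((C.D.Φ q) 0 + ((C.D.Φ q) 4 + mu (0, 1) ((C.D.Φ q) 4 + (C.D.Φ q) 5)))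
  obtain ⟨m1, q1, h1, p1⟩ := img 1 (mu (0, 1) ((C.D.Φ q) 4 + (C.D.Φ q) 5))
  obtain ⟨m2, q2, h2, p2⟩ := img 15 ((C.D.Φ q) 0 + ((C.D.Φ q) 2 + mu (0, 1) ((C.D.Φ q) 2 + (C.D.Φ q) 3)))
  obtain ⟨m3, q3, h3, p3⟩ := img 25 (mu (0, 1) ((C.D.Φ q) 2 + (C.D.Φ q) 3))
  obtain ⟨m4, q4, h4, p4⟩ := img 16 ((C.D.Φ q) 0)
  have hmQ := mul_mem (mul_mem (mul_mem (mul_mem q0 q1) q2) q3) q4
  have hmH : ((m0 * m1 * m2 * m3 * m4 : _) : G) ∈ H := mul_mem (mul_mem (mul_mem (mul_mem h0 h1) h2) h3) h4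
  have e : C.D.Φ q = C.D.Φ (m0 * m1 * m2 * m3 * m4) := by
    rw [C.D.map_mul _ (mul_mem (mul_mem (mul_mem q0 q1) q2) q3) _ q4,
      C.D.map_mul _ (mul_mem (mul_mem q0 q1) q2) _ q3, C.D.map_mul _ (mul_mem q0 q1) _ q2,
      C.D.map_mul _ q0 _ q1, p0, p1, p2, p3, p4]
    exact span_five _ ((mem_cen_iff hq).1 hqc)
  rcases C.D.eq_or_mul hq hmQ e with h | h
  · rw [h]; exact hmH
  · rw [h]; exact mul_mem hmH hzH

theorem generated' (hu : ∃ v ∈ C.gperp, ¬ IsConj z (v * z)) :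
    C.cen ⊓ Subgroup.centralizer ({z} : Set G) ≤ Subgroup.closure C.gperp := by
  rintro g ⟨hgc, hgz⟩
  set H := Subgroup.closure C.gperp
  have hHc : H ≤ C.cen := (Subgroup.closure_le _).2 fun v hv => C.dset_le_cen hv.1
  set T := H.subgroupOf (Subgroup.centralizer ({z} : Set G)) with hT
  have hmap : K0stab v2 ≤ T.map C.D.ρ := by
    rw [← tv_closure C.D.card_K0, Subgroup.closure_le]
    rintro - ⟨p, rfl⟩
    obtain ⟨a, ha⟩ := exists_member (hu.imp fun _ h => h.1) p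
    exact ⟨a, Subgroup.mem_subgroupOf.2 (Subgroup.subset_closure ha.mem), ha.rho⟩
  obtain ⟨t, ht, et⟩ := hmap (C.rho_cen (h := ⟨g, hgz⟩) hgc).2
  have ht' : (t : G) ∈ H := Subgroup.mem_subgroupOf.1 ht
  have hq : t⁻¹ * ⟨g, hgz⟩ ∈ Q := by
    rw [← C.D.ker, MonoidHom.mem_ker, _root_.map_mul, map_inv, et, inv_mul_cancel]
  have := Qcen_le hu H (fun a b _ ha hb => mul_mem (Subgroup.subset_closure ha.mem)
    (Subgroup.subset_closure hb.mem)) hq (mul_mem (inv_mem (hHc ht')) hgc)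
  have h2 := mul_mem ht' this
  rwa [← Subgroup.coe_mul, mul_inv_cancel_left] at h2

theorem four_le_commutator (hu : ∃ v ∈ C.gperp, ¬ IsConj z (v * z)) : C.four ≤ ⁅C.cen, C.cen⁆ := by
  have hH : ∀ (a b : Subgroup.centralizer ({z} : Set G)) (i : Fin 45), Over C a i → Over C b i →
      ((a * b : _) : G) ∈ ⁅C.cen, C.cen⁆ := by
    intro a b i ha hb
    obtain ⟨r, hr, hrc, rfl⟩ := fibre_orbit ha (all_AT hu ha) hb
    have e : a * (r * a * r⁻¹) = ⁅a, r⁆ := by rw [commutatorElement_def, ha.inv_eq]; group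
    rw [e]
    exact Subgroup.commutator_mem_commutator ha.cen hrc
  intro m hm
  have hmQ := C.four_le_Q hm
  exact Qcen_le hu _ hH (q := ⟨m, Subgroup.map_subtype_le Q hmQ⟩) (mem_up.1 hmQ) (C.four_le_cen hm)

theorem card_cen_local (C : U6Ctx z Q) :
    Nat.card ↥(C.cen ⊓ Subgroup.centralizer ({z} : Set G)) = 2 ^ 11 * 25920 := by
  classical
  set T := C.cen.subgroupOf (Subgroup.centralizer ({z} : Set G)) with hT
  have hc : Nat.card ↥(C.cen ⊓ Subgroup.centralizer ({z} : Set G)) = Nat.card T := by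
    rw [← Subgroup.card_map_of_injective (Subgroup.subtype_injective _), hT, Subgroup.subgroupOf_map_subtype]
  set φ := C.D.ρ.comp T.subtype with hφ
  have hr : φ.range = K0stab v2 := by
    refine le_antisymm ?_ fun g hg => ?_
    · rintro _ ⟨t, rfl⟩
      exact (C.rho_cen (Subgroup.mem_subgroupOf.1 t.2)).2
    · obtain ⟨h, hh, -, e⟩ := C.exists_cen hg
      exact ⟨⟨h, Subgroup.mem_subgroupOf.2 hh⟩, e⟩
  have hk : Nat.card φ.ker = 2 ^ 11 := by
    have hmem : ∀ t : T, t ∈ φ.ker ↔ (t : Subgroup.centralizer ({z} : Set G)) ∈ Q := fun t => by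
      rw [MonoidHom.mem_ker, ← C.D.ker, MonoidHom.mem_ker]; rfl
    have hpre : ∀ v : {v : W // hf v2 v = 0}, ∃ q, q ∈ Q ∧ (q : G) ∈ C.cen ∧ C.D.Φ q = v.1 := fun v => by
      obtain ⟨q, hq, e⟩ := C.D.surj v.1
      exact ⟨q, hq, (mem_cen_iff hq).2 (e ▸ v.2), e⟩
    choose s hsQ hsc hsΦ using hpre
    have hzc : (zc z : Subgroup.centralizer ({z} : Set G)) ∈ T := Subgroup.mem_subgroupOf.2 C.z_mem_cen
    let f : {v : W // hf v2 v = 0} × Bool → φ.ker := fun x =>
      ⟨⟨s x.1 * cond x.2 (zc z) 1,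
        mul_mem (Subgroup.mem_subgroupOf.2 (hsc x.1)) (by cases x.2; exacts [one_mem _, hzc])⟩,
        (hmem _).2 (mul_mem (hsQ x.1) (by cases x.2; exacts [one_mem _, C.D.zc_mem]))⟩
    have hzΦ := (C.D.eq_zero _ C.D.zc_mem).2 (Or.inr rfl)
    have hf : Function.Bijective f := by
      constructor
      · rintro ⟨v, b⟩ ⟨v', b'⟩ e
        have e' : s v * cond b (zc z) 1 = s v' * cond b' (zc z) 1 :=
          congrArg (fun k : φ.ker => ((k : T) : Subgroup.centralizer ({z} : Set G))) e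
        have hv : ∀ v (b : Bool), C.D.Φ (s v * cond b (zc z) 1) = v.1 := fun v b => by
          cases b
          · rw [cond_false, mul_one, hsΦ]
          · rw [cond_true, C.D.map_mul _ (hsQ v) _ C.D.zc_mem, hsΦ, hzΦ, add_zero]
        obtain rfl : v = v' := Subtype.ext (by rw [← hv v b, e', hv])
        have e2 := mul_left_cancel e'
        have hz1 : (zc z : Subgroup.centralizer ({z} : Set G)) ≠ 1 := fun h =>
          C.fam.ne_one U6Ctx.sing_z (congrArg Subtype.val h)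
        cases b <;> cases b'
        · rfl
        · exact absurd e2.symm hz1
        · exact absurd e2 hz1
        · rfl
      · rintro ⟨⟨t, ht⟩, htk⟩
        have htQ : t ∈ Q := (hmem ⟨t, ht⟩).1 htk
        set v : {v : W // hf v2 v = 0} := ⟨C.D.Φ t, (mem_cen_iff htQ).1 (Subgroup.mem_subgroupOf.1 ht)⟩
        rcases C.D.eq_or_mul htQ (hsQ v) (hsΦ v).symm with h | h
        · exact ⟨(v, false), Subtype.ext (Subtype.ext (by
            show s v * 1 = t; rw [mul_one]; exact (Subtype.ext h).symm))⟩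
        · exact ⟨(v, true), Subtype.ext (Subtype.ext (by
            show s v * zc z = t; exact (Subtype.ext h).symm))⟩
    rw [← Nat.card_congr (Equiv.ofBijective f hf), Nat.card_prod, Nat.card_eq_fintype_card (α := Bool),
      Fintype.card_bool, Nat.card_eq_fintype_card, Fintype.card_subtype, card_perp]
    norm_num
  have h1 := φ.ker.card_mul_index
  rw [Subgroup.index_ker, hr, hk, card_K0stab C.D.card_K0 v2 (by decide +kernel),
    show lab v2 = 2 by decide +kernel, if_pos rfl] at h1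
  rw [hc, ← h1]

end H7.U6Fibre

namespace H16.Fi24.U6Ctx

open H7.U6Fibre

universe u

variable {G : Type u} [Group G] [Finite G] {z : G}
  {Q : Subgroup (Subgroup.centralizer ({z} : Set G))} [Q.Normal]

/-- The local data. -/
theorem exists_gloc (C : U6Ctx z Q) (hu : ∃ u ∈ C.gperp, ¬ IsConj z (u * z)) : ∃ pt, C.GLoc pt := by
  have hex := fun p => exists_member (C := C) (hu.imp fun _ h => h.1) p
  refine ⟨ptOf C, ⟨C.z_not_four, fun u hd e' he' h => C.dset_unique hd he' h, fun p => ?_,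
    ncard_fibre hu, ?_, ?_, ?_, ?_, ?_, (generated' hu).trans le_sup_left, card_cen_local C,
    four_le_commutator hu⟩⟩
  · obtain ⟨u, hu'⟩ := hex p
    exact ⟨u, hu'.mem, ptOf_eq hu'⟩
  · intro x hx y hy
    obtain ⟨a, rfl, ha⟩ := over_ptOf hx
    obtain ⟨b, rfl, hb⟩ := over_ptOf hy
    rw [← H7.U6Fibre.comm_iff hu ha hb]
    exact ⟨fun h => Subtype.ext h.eq, fun h => congrArg Subtype.val h⟩
  · intro x hx y hy hn
    obtain ⟨a, rfl, ha⟩ := over_ptOf hx
    obtain ⟨b, rfl, hb⟩ := over_ptOf hy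
    have h := congrArg Subtype.val (braid_rel hu ha hb fun h => hn (congrArg Subtype.val h))
    simp only [SubmonoidClass.coe_pow, Subgroup.coe_mul, OneMemClass.coe_one] at h
    rw [h]
    exact one_mem _
  · intro a ha b hb c hc d hd n1 n2 n3 n4 n5 n6 e1 e2 e3
    obtain ⟨a, rfl, ha⟩ := over_ptOf ha
    obtain ⟨b, rfl, hb⟩ := over_ptOf hb
    obtain ⟨c, rfl, hc⟩ := over_ptOf hc
    obtain ⟨d, rfl, hd⟩ := over_ptOf hd
    rw [← e1] at hb
    rw [← e2] at hc
    rw [← e3] at hd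
    have h := congrArg Subtype.val (five_prod hu ha hb hc hd (fun h => n1 (congrArg _ h))
      (fun h => n2 (congrArg _ h)) (fun h => n3 (congrArg _ h)) (fun h => n4 (congrArg _ h))
      (fun h => n5 (congrArg _ h)) (fun h => n6 (congrArg _ h)))
    exact ⟨1, one_mem _, by rw [mul_one]; exact h⟩
  · intro x hx y hy hne hp g hg e
    obtain ⟨a, rfl, ha⟩ := over_ptOf hx
    obtain ⟨b, rfl, hb⟩ := over_ptOf hy
    rw [← hp] at hb
    exact line hu ha hb (fun h => hne (congrArg _ h)) hg e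
  · intro x hx y hy hA e' he'
    obtain ⟨a, rfl, ha⟩ := over_ptOf hx
    obtain ⟨b, rfl, hb⟩ := over_ptOf hy
    have hm : (⟨e', Subgroup.map_subtype_le Q (C.four_le_Q he')⟩ :
        Subgroup.centralizer ({z} : Set G)) ∈ Q := mem_up.1 (C.four_le_Q he')
    refine ⟨mul_not_mem ha hb hA hm, ?_⟩
    have := mul_not_mem ha hb hA (mul_mem C.D.zc_mem hm)
    simp only [Subgroup.coe_mul, ← mul_assoc] at this
    exact this

end H16.Fi24.U6Ctx
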