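import Cfsg.Agent.H7.U6TvCert
import Cfsg.Agent.H16.Fi24.Model

/-!
The forty-five involutions `tv i` inside the stabiliser of `v2`: they form a class generating it,
and they are its only involutions moving some vector by `v2`.
-/

set_option autoImplicit false
set_option maxRecDepth 100000
set_option synthInstance.maxSize 2000

namespace H16.Fi24

open H16.U6 TvCert
open scoped Pointwise

/-! ### Linear maps and their matrices -/

theorem sm_comm_lin {g : W → W} (ha : ∀ u v, g (u + v) = g u + g v) (hw : ∀ v, g (wW v) = wW (g v))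
    (a : F4) (v : W) : g (sm a v) = sm a (g v) := by
  have h0 : g 0 = 0 := by
    have := ha 0 0
    rw [add_zero] at this
    exact left_eq_add.mp this
  have hc : ∀ a : F4, a = 0 ∨ a = (1, 0) ∨ a = (0, 1) ∨ a = (1, 0) + (0, 1) := by decide
  rcases hc a with rfl | rfl | rfl | rfl
  · rw [sm_zero, sm_zero, h0]
  · rw [sm_one, sm_one]
  · exact hw v
  · rw [sm_add_left, sm_add_left, sm_one, sm_one, ha]
    exact congrArg (g v + ·) (hw v)

theorem linM_rep {g : W → W} (ha : ∀ u v, g (u + v) = g u + g v) (hw : ∀ v, g (wW v) = wW (g v))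
    {r : ℕ} (h : ∀ j, g (bv j) = colM r j) (w : W) : g w = linM r w := by
  have hs : ∀ v : W, v = sm (v 0) (bv 0) + sm (v 1) (bv 1) + sm (v 2) (bv 2) + sm (v 3) (bv 3) +
      sm (v 4) (bv 4) + sm (v 5) (bv 5) := fun v => by
    have := (Finset.univ_sum_single v).symm
    rw [Fin.sum_univ_six] at this
    simpa only [sm_single] using this
  conv_lhs => rw [hs w]
  simp only [ha, sm_comm_lin ha hw, h]
  funext i
  simp only [Pi.add_apply, sm, linM, mu_comm]

theorem hf_two (u v : W) : Bf u v = (hf u v).2 := by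
  have key : ∀ a b : F4, (nz (a + b) : ZMod 2) + nz a + nz b = (mu (cj a) b).2 := by decide
  simp only [hf, Prod.snd_sum, ← key]
  simp only [Bf, qf, cnt, Pi.add_apply, Nat.cast_add, Fin.sum_univ_six]
  ring

theorem hf_inv {g : Equiv.Perm W} (hg : IsUni g) (u v : W) : hf (g u) (g v) = hf u v := by
  have h1 : (hf (g u) (g v)).2 = (hf u v).2 := by rw [← hf_two, ← hf_two, hg.Bf_eq]
  have h2 : (hf (g u) (g (wW v))).2 = (hf u (wW v)).2 := by rw [← hf_two, ← hf_two, hg.Bf_eq]
  rw [hg.wcomm, wW, wW, hf_sm, hf_sm] at h2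
  revert h1 h2
  generalize hf (g u) (g v) = a
  generalize hf u v = b
  revert a b
  decide

theorem hf_smul_left (c : F4) (p v : W) : hf (sm c p) v = mu (cj c) (hf p v) := by
  have h : ∀ a b c : F4, mu (cj (mu c a)) b = mu (cj c) (mu (cj a) b) := by decide
  simp only [hf, sm, h, Fin.sum_univ_six, mu_add]

theorem conj_tv {g : Equiv.Perm W} (hg : IsUni g) (hv : g v2 = v2) {i j : Fin 45} {c : ZMod 3}
    (h : g (pvec i) = sm (pw c) (pvec j)) : g * tv i * g⁻¹ = tv j := by
  rw [mul_inv_eq_iff_eq_mul]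
  refine Equiv.ext fun w => ?_
  rw [Equiv.Perm.mul_apply, Equiv.Perm.mul_apply, tv_apply, tv_apply, hg.add, hg.add, hg.sm_comm,
    hg.sm_comm, hv, h]
  have e1 : hf v2 (g w) = hf v2 w := by
    conv_lhs => rw [← hv]
    exact hf_inv hg v2 w
  have e2 : hf (pvec i) w = mu (cj (pw c)) (hf (pvec j) (g w)) := by
    rw [← hf_smul_left, ← h, hf_inv hg]
  have key : ∀ (c : ZMod 3) (a : F4), mu (mu (cj (pw c)) a) (pw c) = a := by decide
  rw [e1, e2, sm_sm, key]

theorem tv_add (i : Fin 45) (u v : W) : tv i (u + v) = tv i u + tv i v := by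
  simp only [tv_apply, hf_add, sm_add_left]
  abel

theorem tv_wW (i : Fin 45) (v : W) : tv i (wW v) = wW (tv i v) := by
  have h : ∀ a b : W, wW (a + b) = wW a + wW b := fun a b => funext fun j => mu_add _ _ _
  simp only [tv_apply]
  rw [h, h]
  simp only [wW, hf_sm, sm_sm]

theorem tv_rep (i : Fin 45) (w : W) : tv i w = linM (tvRow i) w :=
  linM_rep (tv_add i) (tv_wW i) (tv_row i) w

theorem tv_v2 (i : Fin 45) : tv i v2 = v2 := tv_fix i

theorem gen2_stab (k : Fin 6) : gen2 k ∈ K0stab v2 := ⟨gen2_mem k, gen2_fix k⟩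

theorem tv_mem (i : Fin 45) : tv i ∈ K0stab v2 := by
  induction hn : (parTab i).2.2 using Nat.strong_induction_on generalizing i with
  | _ n ih =>
    rcases par_ok i with h | ⟨h1, h2⟩
    · subst h
      refine ⟨?_, tv_v2 0⟩
      set w := mono 1 ![2, 0, 1, 1, 2, 0] * (TW * mono 1 ![2, 1, 0, 0, 0, 0] * TW) *
        mono 1 ![0, 1, 2, 2, 1, 0] * (TW * mono 1 ![0, 0, 0, 0, 1, 2] * TW) with hw
      have hwK : w ∈ K0 :=
        mul_mem (mul_mem (mul_mem (Subgroup.mem_sup_left (mem_E1.2 ⟨_, by decide, rfl⟩))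
          (Subgroup.mem_sup_right (mem_E2.2 ⟨_, by decide, rfl⟩)))
          (Subgroup.mem_sup_left (mem_E1.2 ⟨_, by decide, rfl⟩)))
          (Subgroup.mem_sup_right (mem_E2.2 ⟨_, by decide, rfl⟩))
      have e : tv 0 = w := Equiv.ext fun v => by
        rw [tv_rep, linM_rep (isUni_K0 hwK).add (isUni_K0 hwK).wcomm tv_zero]
      exact e ▸ hwK
    · have hp := ih _ (hn ▸ h2) (parTab i).2.1 rfl
      have e := conj_tv (isUni_K0 (gen2_mem (parTab i).1)) (gen2_fix _) (g_ok (parTab i).1 (parTab i).2.1)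
      rw [h1] at e
      rw [← e]
      exact mul_mem (mul_mem (gen2_stab _) hp) (inv_mem (gen2_stab _))

theorem isUni_tv (i : Fin 45) : IsUni ⇑(tv i) := isUni_K0 (tv_mem i).1

theorem tv_inv (i : Fin 45) : (tv i)⁻¹ = tv i := Equiv.ext fun _ => rfl

theorem tv_sq (i : Fin 45) : tv i * tv i = 1 := Equiv.ext fun w => tvMap_invol i w

theorem tv_conj_tv (i j : Fin 45) : tv i * tv j * tv i = tv (pi i j) := by
  have := conj_tv (isUni_tv i) (tv_v2 i) (pi_ok i j)
  rwa [tv_inv] at this

theorem tv_inj : Function.Injective tv := fun i j h => tv_sep i j fun c => by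
  rw [← tv_row, ← tv_row]
  exact Equiv.ext_iff.1 h (bv c)

theorem tv_ne_one (i : Fin 45) : tv i ≠ 1 := fun h => by
  obtain ⟨c, hc⟩ := tv_moves i
  rw [← tv_row] at hc
  exact hc (Equiv.ext_iff.1 h (bv c))

theorem tv_comm_iff (i j : Fin 45) : tv i * tv j = tv j * tv i ↔ i = j ∨ Adj i j := by
  rw [← pi_adj, ← tv_inj.eq_iff, ← tv_conj_tv]
  constructor
  · intro h
    rw [h, mul_assoc, tv_sq, mul_one]
  · intro h
    conv_rhs => rw [← h]
    rw [mul_assoc, tv_sq, mul_one]

theorem tv_braid (i j : Fin 45) (h : tv i * tv j ≠ tv j * tv i) : (tv i * tv j) ^ 3 = 1 := by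
  have hne : pi i j ≠ j := fun e => h ((tv_comm_iff i j).2 ((pi_adj i j).1 e))
  have e1 := tv_conj_tv i j
  have e2 := tv_conj_tv j i
  rw [← pi_sym i j hne] at e2
  calc (tv i * tv j) ^ 3 = (tv i * tv j * tv i) * (tv j * tv i * tv j) := by
        rw [pow_succ, pow_two]
        simp only [mul_assoc]
    _ = 1 := by rw [e1, e2, tv_sq]

theorem tv_prod_ne (i j : Fin 45) (h : Adj i j) (k : Fin 45) : tv i * tv j ≠ tv k := by
  intro e
  have hij : tv i * tv j = tv j * tv i := (tv_comm_iff i j).2 (Or.inr h)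
  have hik : Adj i k := by
    refine ((tv_comm_iff i k).1 ?_).resolve_left ?_
    · rw [← e, ← mul_assoc, tv_sq, one_mul, hij, mul_assoc, tv_sq, mul_one]
    · rintro rfl
      exact tv_ne_one j (mul_eq_left.1 e)
  have hjk : Adj j k := by
    refine ((tv_comm_iff j k).1 ?_).resolve_left ?_
    · rw [← e, ← mul_assoc, ← hij]
    · rintro rfl
      exact tv_ne_one i (mul_eq_right.1 e)
  obtain ⟨c, hc⟩ := tri i j h k hik hjk
  rw [← tv_row, ← tv_row] at hc
  exact hc (Equiv.ext_iff.1 e (bv c))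

/-! ### Generation -/

/-- The product of a word. -/
def wordTv (w : List (Fin 45)) : Equiv.Perm W := (w.map tv).prod

theorem wordTv_conj (w : List (Fin 45)) (j : Fin 45) :
    wordTv w * tv j * (wordTv w)⁻¹ = tv (act w j) := by
  induction w with
  | nil => simp [wordTv, act]
  | cons a w ih =>
    have e : wordTv (a :: w) = tv a * wordTv w := by simp [wordTv]
    rw [e, mul_inv_rev, show tv a * wordTv w * tv j * ((wordTv w)⁻¹ * (tv a)⁻¹) =
      tv a * (wordTv w * tv j * (wordTv w)⁻¹) * (tv a)⁻¹ by simp only [mul_assoc], ih, tv_inv,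
      tv_conj_tv]
    rfl

theorem wordTv_mem (w : List (Fin 45)) : wordTv w ∈ Subgroup.closure (Set.range tv) :=
  list_prod_mem fun g hg => by
    obtain ⟨k, -, rfl⟩ := List.mem_map.1 hg
    exact Subgroup.subset_closure ⟨k, rfl⟩

theorem cancel_step {u u' R R' : Equiv.Perm W} {b c c' : Fin 45} (hu : u * tv b * u⁻¹ = tv c)
    (hu' : u' * tv b * u'⁻¹ = tv c') (hR : R * tv b * R⁻¹ = tv b) (hR' : R' * tv b * R'⁻¹ = tv b)
    (e : u * R = u' * R') : c = c' := by
  apply tv_inj
  have e1 : ∀ a b' : Equiv.Perm W, b' * tv b * b'⁻¹ = tv b → a * b' * tv b * (a * b')⁻¹ = a * tv b * a⁻¹ := by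
    intro a b' hb
    rw [show a * b' * tv b * (a * b')⁻¹ = a * (b' * tv b * b'⁻¹) * a⁻¹ by group, hb]
  rw [← hu, ← hu', ← e1 u R hR, ← e1 u' R' hR', e]

theorem conj_fix_mul {a b x : Equiv.Perm W} (ha : a * x * a⁻¹ = x) (hb : b * x * b⁻¹ = x) :
    a * b * x * (a * b)⁻¹ = x := by
  rw [show a * b * x * (a * b)⁻¹ = a * (b * x * b⁻¹) * a⁻¹ by group, hb, ha]

theorem card_closure_ge : 25920 ≤ Nat.card (Subgroup.closure (Set.range tv)) := by
  let f : (Fin 45 × Fin 32) × (Fin 9 × Fin 2) → Subgroup.closure (Set.range tv) := fun x =>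
    ⟨wordTv (lev0 x.1.1) * (wordTv (lev1 x.1.2) * (wordTv (lev2 x.2.1) * wordTv (lev3 x.2.2))),
      mul_mem (wordTv_mem _) (mul_mem (wordTv_mem _) (mul_mem (wordTv_mem _) (wordTv_mem _)))⟩
  obtain ⟨f10, f20, f30, f21, f31, f32⟩ := lev_fix
  obtain ⟨i0, i1, i2, i3⟩ := lev_inj
  have hfix : ∀ {w : List (Fin 45)} {b : Fin 45}, act w b = b → wordTv w * tv b * (wordTv w)⁻¹ = tv b :=
    fun {w b} h => by rw [wordTv_conj, h]
  have hf : Function.Injective f := by
    rintro ⟨⟨a, b⟩, c, d⟩ ⟨⟨a', b'⟩, c', d'⟩ e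
    have e0 : wordTv (lev0 a) * (wordTv (lev1 b) * (wordTv (lev2 c) * wordTv (lev3 d))) =
        wordTv (lev0 a') * (wordTv (lev1 b') * (wordTv (lev2 c') * wordTv (lev3 d'))) :=
      congrArg Subtype.val e
    have ha := i0 a a' (cancel_step (wordTv_conj _ 0) (wordTv_conj _ 0)
      (conj_fix_mul (hfix (f10 b)) (conj_fix_mul (hfix (f20 c)) (hfix (f30 d))))
      (conj_fix_mul (hfix (f10 b')) (conj_fix_mul (hfix (f20 c')) (hfix (f30 d')))) e0)
    subst ha
    have e1 := mul_left_cancel e0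
    have hb := i1 b b' (cancel_step (wordTv_conj _ 1) (wordTv_conj _ 1)
      (conj_fix_mul (hfix (f21 c)) (hfix (f31 d))) (conj_fix_mul (hfix (f21 c')) (hfix (f31 d'))) e1)
    subst hb
    have e2 := mul_left_cancel e1
    have hc := i2 c c' (cancel_step (wordTv_conj _ 16) (wordTv_conj _ 16) (hfix (f32 d)) (hfix (f32 d')) e2)
    subst hc
    have hd : d = d' := i3 d d' (tv_inj (by rw [← wordTv_conj, ← wordTv_conj, mul_left_cancel e2]))
    subst hd
    rfl
  have := Nat.card_le_card_of_injective f hf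
  simpa [Nat.card_eq_fintype_card] using this

theorem tv_closure (hK : Nat.card K0 = 9797760) :
    Subgroup.closure (Set.range tv) = K0stab v2 := by
  refine Subgroup.eq_of_le_of_card_ge ((Subgroup.closure_le _).2 ?_) ?_
  · rintro - ⟨i, rfl⟩
    exact tv_mem i
  · rw [card_K0stab hK v2 (by decide +kernel), show lab v2 = 2 by decide +kernel, if_pos rfl]
    exact card_closure_ge

theorem tv_conj (hK : Nat.card K0 = 9797760) {g : Equiv.Perm W} (hg : g ∈ K0stab v2) (i : Fin 45) :
    ∃ j, g * tv i * g⁻¹ = tv j := by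
  rw [← tv_closure hK] at hg
  induction hg using Subgroup.closure_induction generalizing i with
  | mem x hx =>
    obtain ⟨k, rfl⟩ := hx
    exact ⟨pi k i, by rw [tv_inv]; exact tv_conj_tv k i⟩
  | one => exact ⟨i, by group⟩
  | mul a b _ _ iha ihb =>
    obtain ⟨j, hj⟩ := ihb i
    obtain ⟨k, hk⟩ := iha j
    refine ⟨k, ?_⟩
    rw [show a * b * tv i * (a * b)⁻¹ = a * (b * tv i * b⁻¹) * a⁻¹ by group, hj, hk]
  | inv a _ ih =>
    let f : Fin 45 → Fin 45 := fun i => (ih i).choose
    have hf : Function.Injective f := fun x y e => by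
      have hx := (ih x).choose_spec
      have hy := (ih y).choose_spec
      rw [show (ih x).choose = (ih y).choose from e, ← hy] at hx
      exact tv_inj (mul_left_cancel (mul_right_cancel hx))
    obtain ⟨x, hx⟩ := Finite.surjective_of_injective hf i
    refine ⟨x, ?_⟩
    rw [← hx, ← (ih x).choose_spec]
    group

theorem tv_to_zero (i : Fin 45) : ∃ g ∈ K0stab v2, g * tv 0 * g⁻¹ = tv i := by
  induction hn : (parTab i).2.2 using Nat.strong_induction_on generalizing i with
  | _ n ih =>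
    rcases par_ok i with h | ⟨h1, h2⟩
    · subst h
      exact ⟨1, one_mem _, by group⟩
    · obtain ⟨g, hg, e⟩ := ih _ (hn ▸ h2) (parTab i).2.1 rfl
      have e2 := conj_tv (isUni_K0 (gen2_mem (parTab i).1)) (gen2_fix _) (g_ok (parTab i).1 (parTab i).2.1)
      rw [h1] at e2
      refine ⟨gen2 (parTab i).1 * g, mul_mem (gen2_stab _) hg, ?_⟩
      rw [show gen2 (parTab i).1 * g * tv 0 * (gen2 (parTab i).1 * g)⁻¹ =
        gen2 (parTab i).1 * (g * tv 0 * g⁻¹) * (gen2 (parTab i).1)⁻¹ by group, e, e2]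

theorem tv_trans (i j : Fin 45) : ∃ g ∈ K0stab v2, g * tv i * g⁻¹ = tv j := by
  obtain ⟨a, ha, ea⟩ := tv_to_zero i
  obtain ⟨b, hb, eb⟩ := tv_to_zero j
  refine ⟨b * a⁻¹, mul_mem hb (inv_mem ha), ?_⟩
  rw [← ea, ← eb]
  group

/-! ### Classification -/

/-- The stabiliser of the two vectors. -/
def stabRoot : Subgroup (Equiv.Perm W) := K0stab v2 ⊓ MulAction.stabilizer (Equiv.Perm W) root2

theorem exists_to_root2 (x : W) (hx : om2 x) : ∃ g ∈ K0stab v2, g x = root2 := by
  induction hn : depth2 x using Nat.strong_induction_on generalizing x with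
  | _ n ih =>
    rcases tree2_ok x hx with h | h
    · exact ⟨1, one_mem _, h⟩
    · obtain ⟨g, hg, e⟩ := ih _ (hn ▸ h) _ (gen2_om2 (step2 x) hx) rfl
      exact ⟨g * gen2 (step2 x), mul_mem hg (gen2_stab _), e⟩

theorem card_stabRoot (hK : Nat.card K0 = 9797760) : Nat.card stabRoot = 192 := by
  classical
  have horb : MulAction.orbit (K0stab v2) root2 = {x | om2 x} := by
    ext x
    refine ⟨fun ⟨g, e⟩ => e ▸ om2_map (isUni_K0 g.2.1).add (lab_K0 g.2.1) g.2.2 root2_mem, fun hx => ?_⟩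
    obtain ⟨g, hg, e⟩ := exists_to_root2 x hx
    exact ⟨⟨g⁻¹, inv_mem hg⟩, by
      show g⁻¹ root2 = x
      rw [← e]
      exact g.symm_apply_apply x⟩
  have hst : MulAction.stabilizer (K0stab v2) root2 = stabRoot.subgroupOf (K0stab v2) := by
    ext g
    rw [MulAction.mem_stabilizer_iff, Subgroup.mem_subgroupOf]
    exact ⟨fun e => ⟨g.2, e⟩, fun e => e.2⟩
  have h1 := MulAction.index_stabilizer (K0stab v2) root2
  have h2 := (MulAction.stabilizer (K0stab v2) root2).card_mul_index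
  rw [h1, horb, card_K0stab hK v2 (by decide +kernel), show lab v2 = 2 by decide +kernel, if_pos rfl,
    hst, Nat.card_congr (Subgroup.subgroupOfEquivOfLe
      (show stabRoot ≤ K0stab v2 from inf_le_left)).toEquiv] at h2
  have hn : Set.ncard {x : W | om2 x} = 135 := by
    rw [Set.ncard_eq_toFinset_card', ← card_om2]
    exact congrArg _ (Finset.ext fun _ => by simp)
  rw [hn] at h2
  omega

theorem steps_sound : ∀ (l : List (Fin 45 × ℕ)) (p : ℕ) (g : Equiv.Perm W), g ∈ K0stab v2 →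
    (∀ w, g w = linM p w) → stepsOk l p = true →
    ∃ h ∈ K0stab v2, ∀ w, h w = linM (lastRow l p) w
  | [], p, g, hg, hp, _ => ⟨g, hg, hp⟩
  | (k, r) :: l, p, g, hg, hp, h => by
    simp only [stepsOk, Bool.and_eq_true, decide_eq_true_eq] at h
    have hm : tv k * g ∈ K0stab v2 := mul_mem (tv_mem k) hg
    refine steps_sound l r (tv k * g) hm (fun w => ?_) h.2
    refine linM_rep (isUni_K0 hm.1).add (isUni_K0 hm.1).wcomm (fun j => ?_) w
    show tvMap k (g (bv j)) = colM r j
    rw [← h.1 j, hp]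
    congr 1
    have : ∀ j, linM p (bv j) = colM p j := fun j => funext fun i => by
      have e0 : ∀ a : F4, mu a (1, 0) = a := by decide
      fin_cases j <;> simp [linM, bv, Pi.single_apply, e0, mu_zero]
    exact this j

theorem exists_genEl (n : Fin 3) : ∃ g ∈ stabRoot, ∀ w, g w = linM (genRow n) w := by
  have h1 : ∀ w, (1 : Equiv.Perm W) w = linM idRow w := fun w =>
    linM_rep (g := ⇑(1 : Equiv.Perm W)) (fun _ _ => rfl) (fun _ => rfl) (fun j => (id_row j).symm) w
  obtain ⟨h, hh, e⟩ := steps_sound (genSteps n) idRow 1 (one_mem _) h1 (steps_ok n).1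
  rw [(steps_ok n).2] at e
  exact ⟨h, ⟨hh, show h root2 = root2 by rw [e, gen_root]⟩, e⟩

/-- Three elements. -/
noncomputable def genEl (n : Fin 3) : Equiv.Perm W := (exists_genEl n).choose

theorem genEl_mem (n : Fin 3) : genEl n ∈ stabRoot := (exists_genEl n).choose_spec.1

theorem genEl_rep (n : Fin 3) (w : W) : genEl n w = linM (genRow n) w := (exists_genEl n).choose_spec.2 w

/-- The subgroup of order sixty-four. -/
noncomputable def P64 : Subgroup (Equiv.Perm W) := Subgroup.closure (Set.range genEl)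

theorem P64_le : P64 ≤ stabRoot := (Subgroup.closure_le _).2 (by rintro - ⟨n, rfl⟩; exact genEl_mem n)

theorem p_step {g : Equiv.Perm W} (hg : g ∈ P64) {m : Fin 64} (h : ∀ w, g w = linM (pRow m) w)
    (n : Fin 3) (w : W) : (g * genEl n) w = linM (pRow (pMul m n)) w := by
  have hu := isUni_K0 (mul_mem (P64_le hg) (genEl_mem n)).1.1
  refine linM_rep hu.add hu.wcomm (fun j => ?_) w
  rw [Equiv.Perm.mul_apply, h, genEl_rep, ← p_mul]
  congr 1
  have e0 : ∀ a : F4, mu a (1, 0) = a := by decide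
  exact funext fun i => by fin_cases j <;> simp [linM, bv, Pi.single_apply, e0, mu_zero]

theorem P64_rows {g : Equiv.Perm W} (hg : g ∈ P64) : ∃ m, ∀ w, g w = linM (pRow m) w := by
  have hmon : g ∈ Submonoid.closure (Set.range genEl) := by
    rwa [← Subgroup.closure_toSubmonoid_of_finite]
  induction hmon using Submonoid.closure_induction_right with
  | one => exact ⟨0, fun w => by
      rw [p_zero]
      exact linM_rep (g := ⇑(1 : Equiv.Perm W)) (fun _ _ => rfl) (fun _ => rfl) (fun j => (id_row j).symm) w⟩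
  | mul_right x hx y hy ih =>
    obtain ⟨n, rfl⟩ := hy
    have hx' : x ∈ P64 := by
      have : x ∈ (P64).toSubmonoid := by
        rw [P64, Subgroup.closure_toSubmonoid_of_finite]
        exact hx
      exact this
    obtain ⟨m, hm⟩ := ih hx'
    exact ⟨pMul m n, p_step hx' hm n⟩

theorem P64_all (m : Fin 64) : ∃ g ∈ P64, ∀ w, g w = linM (pRow m) w := by
  induction hn : m.val using Nat.strong_induction_on generalizing m with
  | _ n ih =>
    rcases p_par m with ⟨-, h⟩ | ⟨h1, h2⟩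
    · exact ⟨1, one_mem _, fun w => by
        rw [h]
        exact linM_rep (g := ⇑(1 : Equiv.Perm W)) (fun _ _ => rfl) (fun _ => rfl) (fun j => (id_row j).symm) w⟩
    · obtain ⟨g, hg, e⟩ := ih _ (hn ▸ h1) (pPar m).1 rfl
      have := p_step hg e (pPar m).2
      rw [h2] at this
      exact ⟨g * genEl (pPar m).2, mul_mem hg (Subgroup.subset_closure ⟨_, rfl⟩), this⟩

theorem linM_bv (r : ℕ) (j : Fin 6) : linM r (bv j) = colM r j := by
  have e0 : ∀ a : F4, mu a (1, 0) = a := by decide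
  exact funext fun i => by fin_cases j <;> simp [linM, bv, Pi.single_apply, e0, mu_zero]

theorem card_P64 : Nat.card P64 = 64 := by
  classical
  choose f hf using P64_all
  let F : Fin 64 → P64 := fun m => ⟨f m, (hf m).1⟩
  have hF : Function.Bijective F := by
    refine ⟨fun m m' e => p_sep m m' fun c => ?_, fun g => ?_⟩
    · rw [← linM_bv, ← linM_bv, ← (hf m).2, ← (hf m').2]
      exact congrArg (fun x : P64 => (x : Equiv.Perm W) (bv c)) e
    · obtain ⟨m, hm⟩ := P64_rows g.2
      exact ⟨m, Subtype.ext (Equiv.ext fun w => ((hf m).2 w).trans (hm w).symm)⟩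
  rw [← Nat.card_congr (Equiv.ofBijective F hF), Nat.card_fin]

theorem P64_class {g : Equiv.Perm W} (hg : g ∈ P64) (h2 : g * g = 1) {w : W} (hw : g w = w + v2) :
    ∃ i, g = tv i := by
  obtain ⟨m, hm⟩ := P64_rows hg
  have h := kind_ok m
  have hu := isUni_K0 (P64_le hg).1.1
  unfold KindOk at h
  split_ifs at h with h1 h3 h4
  · refine ⟨Fin.ofNat 45 (pKind m), Equiv.ext fun x => ?_⟩
    rw [linM_rep hu.add hu.wcomm (r := tvRow (Fin.ofNat 45 (pKind m))) (fun j => by rw [hm, linM_bv, h]) x,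
      tv_rep]
  · obtain ⟨c, hc⟩ := h
    exact absurd (by rw [← linM_bv, ← hm, ← hm]; exact Equiv.ext_iff.1 h2 (bv c)) hc
  · exfalso
    have e : g w = w := by
      rw [linM_rep hu.add hu.wcomm (r := idRow) (fun j => by rw [hm, linM_bv, h, id_row]) w,
        ← linM_rep (g := id) (fun _ _ => rfl) (fun _ => rfl) (r := idRow) (fun j => (id_row j).symm) w]
      rfl
    rw [e] at hw
    exact (show v2 ≠ 0 by decide +kernel) (left_eq_add.mp hw)
  · exfalso
    obtain ⟨hy, hb⟩ := h
    set y := dv (pKind m - 100)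
    rw [← hm] at hy
    have e := hu.Bf_eq y w
    rw [hy, hw] at e
    have hadd : Bf y (w + v2) = Bf y w + Bf y v2 := by
      rw [hf_two, hf_two, hf_two, hf_add, Prod.snd_add]
    rw [hadd, hb] at e
    revert e
    generalize Bf y w = t
    revert t
    decide

theorem tv_class (hK : Nat.card K0 = 9797760) {g : Equiv.Perm W} (hg : g ∈ K0stab v2) (h2 : g * g = 1)
    (hw : ∃ w, g w = w + v2) : ∃ i, g = tv i := by
  classical
  have := Fact.mk Nat.prime_two
  obtain ⟨w, hw⟩ := hw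
  have hp : IsPGroup 2 (Subgroup.zpowers g) := by
    obtain ⟨k, -, hk⟩ := (Nat.dvd_prime_pow Nat.prime_two (m := 1)).1
      (orderOf_dvd_of_pow_eq_one (show g ^ 2 ^ 1 = 1 by rw [pow_one, pow_two]; exact h2))
    exact IsPGroup.of_card (n := k) (by rw [Nat.card_zpowers, hk])
  have hle : Subgroup.zpowers g ≤ K0stab v2 := Subgroup.zpowers_le.2 hg
  obtain ⟨x, hx, hfix⟩ := exists_fixed_om2 _ hp fun p hp x hx =>
    om2_map (isUni_K0 (hle hp).1).add (lab_K0 (hle hp).1) (hle hp).2 hx
  obtain ⟨c, hc, ec⟩ := exists_to_root2 x hx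
  set g' := c * g * c⁻¹ with hg'
  have hgS : g' ∈ stabRoot := by
    refine ⟨(K0stab v2).mul_mem ((K0stab v2).mul_mem hc hg) ((K0stab v2).inv_mem hc), ?_⟩
    show g' root2 = root2
    rw [← ec, hg', Equiv.Perm.mul_apply, Equiv.Perm.mul_apply, Equiv.Perm.coe_inv, c.symm_apply_apply,
      hfix g (Subgroup.mem_zpowers g)]
  have hcard : Nat.card (P64.subgroupOf stabRoot) = 2 ^ (Nat.card stabRoot).factorization 2 := by
    rw [Nat.card_congr (Subgroup.subgroupOfEquivOfLe P64_le).toEquiv, card_P64, card_stabRoot hK,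
      show (192 : ℕ).factorization 2 = 6 by
        rw [show (192 : ℕ) = 2 ^ 6 * 3 by norm_num, Nat.factorization_mul (by norm_num) (by norm_num),
          Finsupp.add_apply, Nat.Prime.factorization_pow Nat.prime_two,
          Nat.Prime.factorization Nat.prime_three]
        simp]
    norm_num
  let P : Sylow 2 stabRoot := Sylow.ofCard _ hcard
  have hp' : IsPGroup 2 (Subgroup.zpowers (⟨g', hgS⟩ : stabRoot)) := by
    obtain ⟨k, hk⟩ := IsPGroup.iff_card.1 hp
    refine IsPGroup.of_card (n := k) ?_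
    rw [← hk, Nat.card_zpowers, Nat.card_zpowers, ← Subgroup.orderOf_coe]
    exact orderOf_injective (MulAut.conj c).toMonoidHom (MulAut.conj c).injective g
  obtain ⟨P', hP'⟩ := hp'.exists_le_sylow
  obtain ⟨d, hd⟩ := MulAction.exists_smul_eq stabRoot P' P
  have hmem : (d * ⟨g', hgS⟩ * d⁻¹ : stabRoot) ∈ P64.subgroupOf stabRoot := by
    have h := Subgroup.smul_mem_pointwise_smul _ (MulAut.conj d) _ (hP' (Subgroup.mem_zpowers _))
    rw [show MulAut.conj d • (P' : Subgroup stabRoot) = ((d • P' : Sylow 2 stabRoot) : Subgroup stabRoot)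
      from rfl, hd] at h
    exact h
  set e := (d : Equiv.Perm W) * c with he
  have heS : e ∈ K0stab v2 := mul_mem d.2.1 hc
  have hge : e * g * e⁻¹ ∈ P64 := by
    have : ((d * ⟨g', hgS⟩ * d⁻¹ : stabRoot) : Equiv.Perm W) = e * g * e⁻¹ := by
      simp only [Subgroup.coe_mul, Subgroup.coe_inv, hg', he]
      group
    rw [← this]
    exact hmem
  obtain ⟨i, hi⟩ := P64_class hge (by
    rw [show e * g * e⁻¹ * (e * g * e⁻¹) = e * (g * g) * e⁻¹ by group, h2, mul_one, mul_inv_cancel])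
    (w := e w) (by
      rw [Equiv.Perm.mul_apply, Equiv.Perm.mul_apply, Equiv.Perm.coe_inv, e.symm_apply_apply, hw,
        (isUni_K0 heS.1).add, show e v2 = v2 from heS.2])
  obtain ⟨j, hj⟩ := tv_conj hK (inv_mem heS) i
  exact ⟨j, by rw [← hj, ← hi]; group⟩

/-- All properties of the forty-five involutions. -/
theorem tv_bundle (hK : Nat.card K0 = 9797760) :
    (∀ i, tv i ∈ K0stab v2) ∧
    (∀ g ∈ K0stab v2, g * g = 1 → (∃ w, g w = w + v2) → ∃ i, g = tv i) ∧
    Subgroup.closure (Set.range tv) = K0stab v2 ∧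
    (∀ g ∈ K0stab v2, ∀ i, ∃ j, g * tv i * g⁻¹ = tv j) ∧
    (∀ i j, ∃ g ∈ K0stab v2, g * tv i * g⁻¹ = tv j) ∧
    Function.Injective tv ∧ (∀ i, tv i ≠ 1) ∧
    (∀ i j, tv i * tv j = tv j * tv i ↔ i = j ∨ Adj i j) ∧
    (∀ i j, tv i * tv j ≠ tv j * tv i → (tv i * tv j) ^ 3 = 1) ∧
    ∀ i j, Adj i j → ∀ k, tv i * tv j ≠ tv k :=
  ⟨tv_mem, fun _ hg h2 hw => tv_class hK hg h2 hw, tv_closure hK, fun _ hg => tv_conj hK hg, tv_trans,
    tv_inj, tv_ne_one, tv_comm_iff, tv_braid, fun i j h k => tv_prod_ne i j h k⟩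

end H16.Fi24
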