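import Mathlib
import Cfsg.Agent.H58.OnanScottCore

/-!
Composition length of permutation groups: at most `4/3 (n - r)` for `n` points and `r` orbits.
-/

set_option autoImplicit false

namespace H7.CompLength

universe u v

/-- A strictly increasing subnormal series of length `l` from the trivial subgroup up to `H`. -/
inductive SN {G : Type*} [Group G] : Subgroup G → ℕ → Prop
  | bot : SN ⊥ 0
  | step {H K : Subgroup G} {l : ℕ} : SN H l → H < K → (H.subgroupOf K).Normal → SN K (l + 1)

/-- The composition length. -/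
noncomputable def cl (G : Type*) [Group G] : ℕ := sSup {l | SN (⊤ : Subgroup G) l}

section basic

variable {G Q : Type*} [Group G] [Group Q]

theorem norm_mem {H K : Subgroup G} (h : H ≤ K) (hn : (H.subgroupOf K).Normal)
    {x y : G} (hx : x ∈ H) (hy : y ∈ K) : y * x * y⁻¹ ∈ H :=
  (Subgroup.normal_subgroupOf_iff h).mp hn x y hx hy

theorem norm_of {H K : Subgroup G} (h : H ≤ K) (hn : ∀ x ∈ H, ∀ y ∈ K, y * x * y⁻¹ ∈ H) :
    (H.subgroupOf K).Normal :=
  (Subgroup.normal_subgroupOf_iff h).mpr fun x y hx hy => hn x hx y hy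

theorem SN.le_cardFactors [Finite G] {H : Subgroup G} {l : ℕ} (h : SN H l) :
    l ≤ ArithmeticFunction.cardFactors (Nat.card H) := by
  induction h with
  | bot => simp
  | @step H K l h1 hlt hn ih =>
    obtain ⟨c, hc⟩ := Subgroup.card_dvd_of_le hlt.le
    have hK : 0 < Nat.card K := Nat.card_pos
    have hc0 : c ≠ 0 := fun h => by rw [h, mul_zero] at hc; omega
    have hc1 : c ≠ 1 := fun h => hlt.ne (Subgroup.eq_of_le_of_card_ge hlt.le (by rw [hc, h, mul_one]))
    rw [hc, ArithmeticFunction.cardFactors_mul Nat.card_pos.ne' hc0]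
    have : 0 < ArithmeticFunction.cardFactors c := ArithmeticFunction.cardFactors_pos_iff_one_lt.mpr (by omega)
    omega

theorem exists_SN_top : ∃ l, SN (⊤ : Subgroup G) l := by
  by_cases h : (⊤ : Subgroup G) = ⊥
  · exact ⟨0, h ▸ SN.bot⟩
  · exact ⟨1, SN.step SN.bot (bot_lt_iff_ne_bot.mpr h)
      (norm_of bot_le fun x hx y _ => by rw [Subgroup.mem_bot.mp hx]; simp)⟩

theorem bddAbove_SN [Finite G] : BddAbove {l | SN (⊤ : Subgroup G) l} :=
  ⟨ArithmeticFunction.cardFactors (Nat.card (⊤ : Subgroup G)), fun _ h => h.le_cardFactors⟩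

theorem le_cl [Finite G] {l : ℕ} (h : SN (⊤ : Subgroup G) l) : l ≤ cl G :=
  le_csSup bddAbove_SN h

theorem SN_cl [Finite G] : SN (⊤ : Subgroup G) (cl G) :=
  Nat.sSup_mem exists_SN_top bddAbove_SN

theorem cl_le_cardFactors [Finite G] : cl G ≤ ArithmeticFunction.cardFactors (Nat.card G) := by
  have := (SN_cl (G := G)).le_cardFactors
  rwa [Subgroup.card_top] at this

theorem cl_of_subsingleton [Subsingleton G] : cl G = 0 := by
  have := cl_le_cardFactors (G := G)
  simpa using this

theorem two_pow_cl_le [Finite G] : 2 ^ cl G ≤ Nat.card G := by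
  refine le_trans (Nat.pow_le_pow_right (by norm_num) cl_le_cardFactors) ?_
  rw [ArithmeticFunction.cardFactors_apply]
  refine le_trans (List.pow_card_le_prod _ 2 fun p hp => (Nat.prime_of_mem_primeFactorsList hp).two_le) ?_
  rw [Nat.prod_primeFactorsList Nat.card_pos.ne']

theorem SN.split [Finite G] (f : G →* Q) {H : Subgroup G} {l : ℕ} (h : SN H l) :
    ∃ a b, l ≤ a + b ∧ SN (H.subgroupOf f.ker) a ∧ SN (H.map f) b := by
  induction h with
  | bot => exact ⟨0, 0, le_rfl, by rw [Subgroup.bot_subgroupOf]; exact SN.bot,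
      by rw [Subgroup.map_bot]; exact SN.bot⟩
  | @step H K l _ hlt hn ih =>
    obtain ⟨a, b, hl, ha, hb⟩ := ih
    have hle1 : H.subgroupOf f.ker ≤ K.subgroupOf f.ker := fun x hx => hlt.le hx
    have hn1 := norm_of hle1 fun x hx y hy => norm_mem hlt.le hn hx hy
    have hle2 : H.map f ≤ K.map f := Subgroup.map_mono hlt.le
    have hn2 : ((H.map f).subgroupOf (K.map f)).Normal := norm_of hle2 (by
      rintro _ ⟨x, hx, rfl⟩ _ ⟨y, hy, rfl⟩
      exact ⟨y * x * y⁻¹, norm_mem hlt.le hn hx hy, by simp⟩)
    by_cases h1 : H.subgroupOf f.ker = K.subgroupOf f.ker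
    · have h2 : H.map f ≠ K.map f := by
        intro h2
        apply hlt.not_ge
        intro x hx
        obtain ⟨y, hy, hxy⟩ := (h2 ▸ Subgroup.mem_map_of_mem f hx : f x ∈ H.map f)
        have hk : y⁻¹ * x ∈ f.ker := by simp [MonoidHom.mem_ker, hxy]
        have : (⟨_, hk⟩ : f.ker) ∈ K.subgroupOf f.ker := K.mul_mem (K.inv_mem (hlt.le hy)) hx
        rw [← h1] at this
        simpa using H.mul_mem hy this
      exact ⟨a, b + 1, by omega, h1 ▸ ha, hb.step (lt_of_le_of_ne hle2 h2) hn2⟩
    · by_cases h2 : H.map f = K.map f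
      · exact ⟨a + 1, b, by omega, ha.step (lt_of_le_of_ne hle1 h1) hn1, h2 ▸ hb⟩
      · exact ⟨a + 1, b + 1, by omega, ha.step (lt_of_le_of_ne hle1 h1) hn1,
          hb.step (lt_of_le_of_ne hle2 h2) hn2⟩

theorem SN.map_subtype (N : Subgroup G) {H : Subgroup N} {l : ℕ} (h : SN H l) :
    SN (H.map N.subtype) l := by
  induction h with
  | bot => rw [Subgroup.map_bot]; exact SN.bot
  | @step H K l _ hlt hn ih =>
    refine ih.step ?_ (norm_of (Subgroup.map_mono hlt.le) ?_)
    · refine lt_of_le_of_ne (Subgroup.map_mono hlt.le) fun h => hlt.ne ?_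
      exact Subgroup.map_injective N.subtype_injective h
    · rintro _ ⟨x, hx, rfl⟩ _ ⟨y, hy, rfl⟩
      exact ⟨y * x * y⁻¹, norm_mem hlt.le hn hx hy, by simp⟩

theorem SN.comap_add (f : G →* Q) (hf : Function.Surjective f) {a : ℕ} (ha : SN f.ker a)
    {B : Subgroup Q} {b : ℕ} (hb : SN B b) : SN (B.comap f) (a + b) := by
  induction hb with
  | bot => simpa [MonoidHom.comap_bot] using ha
  | @step H K l _ hlt hn ih =>
    refine ih.step ?_ (norm_of (Subgroup.comap_mono hlt.le) ?_)
    · refine lt_of_le_of_ne (Subgroup.comap_mono hlt.le) fun h => hlt.ne ?_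
      exact Subgroup.comap_injective hf h
    · intro x hx y hy
      simp only [Subgroup.mem_comap, map_mul, map_inv] at *
      exact norm_mem hlt.le hn hx hy

theorem cl_eq_add [Finite G] (f : G →* Q) (hf : Function.Surjective f) :
    cl G = cl f.ker + cl Q := by
  haveI : Finite Q := Finite.of_surjective f hf
  refine le_antisymm ?_ ?_
  · obtain ⟨a, b, hl, ha, hb⟩ := (SN_cl (G := G)).split f
    rw [Subgroup.top_subgroupOf] at ha
    rw [Subgroup.map_top_of_surjective f hf] at hb
    have := le_cl ha
    have := le_cl hb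
    omega
  · have ha := (SN_cl (G := f.ker)).map_subtype f.ker
    rw [← MonoidHom.range_eq_map, Subgroup.range_subtype] at ha
    have := SN.comap_add f hf ha (SN_cl (G := Q))
    rw [Subgroup.comap_top] at this
    exact le_cl this

theorem cl_of_eq_bot {H : Subgroup G} (h : H = ⊥) : cl H = 0 := by
  haveI : Subsingleton H := by rw [h]; infer_instance
  exact cl_of_subsingleton

theorem cl_congr [Finite G] (e : G ≃* Q) : cl G = cl Q := by
  rw [cl_eq_add e.toMonoidHom e.surjective,
    cl_of_eq_bot ((MonoidHom.ker_eq_bot_iff _).mpr e.injective), zero_add]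

theorem cl_range [Finite G] (f : G →* Q) : cl G = cl f.ker + cl f.range := by
  have := cl_eq_add f.rangeRestrict f.rangeRestrict_surjective
  rwa [f.ker_rangeRestrict] at this

theorem cl_of_injective [Finite G] (f : G →* Q) (hf : Function.Injective f) : cl G = cl f.range := by
  rw [cl_range f, cl_of_eq_bot ((MonoidHom.ker_eq_bot_iff _).mpr hf), zero_add]

theorem cl_normal [Finite G] (N : Subgroup G) [N.Normal] : cl G = cl N + cl (G ⧸ N) := by
  have := cl_eq_add (QuotientGroup.mk' N) (QuotientGroup.mk'_surjective N)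
  rwa [QuotientGroup.ker_mk'] at this

theorem cl_of_simple [Finite G] [IsSimpleGroup G] : cl G = 1 := by
  refine le_antisymm ?_ ?_
  · have h := SN_cl (G := G)
    generalize hn : cl G = n at h
    generalize hT : (⊤ : Subgroup G) = T at h
    cases h with
    | bot => omega
    | @step H K l h1 hlt hn' =>
      subst hT
      have hN : H.Normal := ⟨fun x hx y => norm_mem le_top hn' hx trivial⟩
      rcases hN.eq_bot_or_eq_top with h | h
      · subst h
        cases h1 with
        | bot => omega
        | step _ hlt' _ => exact absurd hlt' not_lt_bot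
      · exact absurd h hlt.ne
  · obtain ⟨_ | l, hl⟩ := exists_SN_top (G := G)
    · generalize hT : (⊤ : Subgroup G) = T at hl
      cases hl
      exact absurd hT top_ne_bot
    · exact le_trans (by omega) (le_cl hl)

theorem cl_pi {S : Type*} [Group S] [Finite S] [IsSimpleGroup S] :
    ∀ m : ℕ, cl (Fin m → S) = m := by
  intro m
  induction m with
  | zero => exact cl_of_subsingleton
  | succ m ih =>
    let f : (Fin (m + 1) → S) →* S := Pi.evalMonoidHom (fun _ => S) 0
    have hf : Function.Surjective f := fun s => ⟨fun _ => s, rfl⟩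
    let e : f.ker ≃* (Fin m → S) :=
      { toFun := fun x i => (x : Fin (m + 1) → S) i.succ
        invFun := fun y => ⟨Fin.cons 1 y, by simp [f, MonoidHom.mem_ker]⟩
        left_inv := fun x => by
          apply Subtype.ext
          funext i
          refine Fin.cases ?_ (fun j => ?_) i
          · exact (MonoidHom.mem_ker.mp x.2).symm
          · simp
        right_inv := fun y => by funext i; simp
        map_mul' := fun _ _ => rfl }
    rw [cl_eq_add f hf, cl_congr e, ih, cl_of_simple]

end basic

section orbits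

open MulAction

/-- Number of orbits. -/
noncomputable def nOrb (G α : Type*) [Group G] [MulAction G α] : ℕ :=
  Nat.card (Quotient (orbitRel G α))

theorem le_nOrb {G α β : Type*} [Group G] [MulAction G α] [Finite α] (φ : α → β)
    (hφ : Function.Surjective φ) (hinv : ∀ (g : G) (x : α), φ (g • x) = φ x) :
    Nat.card β ≤ nOrb G α := by
  refine Nat.card_le_card_of_surjective (Quotient.lift φ fun x y h => ?_) fun b => ?_
  · obtain ⟨g, rfl⟩ := h
    exact hinv g y
  · obtain ⟨x, rfl⟩ := hφ b
    exact ⟨⟦x⟧, rfl⟩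

/-- The bound in degree less than `n`. -/
def Below (n : ℕ) : Prop :=
  ∀ (α : Type v) [Finite α] (H : Subgroup (Equiv.Perm α)), Nat.card α < n →
    3 * cl H + 4 * nOrb H α ≤ 4 * Nat.card α

theorem bound_of_hom {G : Type u} [Group G] [Finite G] {n : ℕ} (ih : Below.{v} n)
    {β : Type v} [Finite β] (f : G →* Equiv.Perm β) (hβ : Nat.card β < n)
    {γ : Type*} (φ : β → γ) (hφ : Function.Surjective φ) (hinv : ∀ g x, φ (f g x) = φ x) :
    3 * cl G + 4 * Nat.card γ ≤ 3 * cl f.ker + 4 * Nat.card β := by
  have h1 := ih β f.range hβ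
  have h2 : Nat.card γ ≤ nOrb f.range β := le_nOrb φ hφ (by
    rintro ⟨_, g, rfl⟩ x
    exact hinv g x)
  rw [cl_range f]
  omega

/-- The action on an invariant set. -/
def restrictHom (G : Type*) {α : Type*} [Group G] [MulAction G α] (p : α → Prop)
    (hp : ∀ (g : G) (x : α), p (g • x) ↔ p x) : G →* Equiv.Perm {x : α // p x} where
  toFun g := (MulAction.toPerm g).subtypePerm fun x => hp g x
  map_one' := Equiv.ext fun x => Subtype.ext (one_smul G x.1)
  map_mul' g h := Equiv.ext fun x => Subtype.ext (mul_smul g h x.1)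

theorem bound_intransitive {n : ℕ} (ih : Below.{v} n) {G : Type u} [Group G] [Finite G]
    {α : Type v} [Finite α] [MulAction G α] [FaithfulSMul G α] (hn : Nat.card α ≤ n)
    (h2 : 2 ≤ nOrb G α) : 3 * cl G + 4 * nOrb G α ≤ 4 * Nat.card α := by
  classical
  let π : α → Quotient (orbitRel G α) := fun x => ⟦x⟧
  have hπ : ∀ (g : G) (x : α), π (g • x) = π x := fun g x => Quotient.sound ⟨g, rfl⟩
  have : Nontrivial (Quotient (orbitRel G α)) := by
    rw [← Finite.one_lt_card_iff_nontrivial]; exact h2
  obtain ⟨q₀, q₁, hq⟩ := exists_pair_ne (Quotient (orbitRel G α))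
  obtain ⟨a₀, ha₀⟩ := Quotient.exists_rep q₀
  obtain ⟨a₁, ha₁⟩ := Quotient.exists_rep q₁
  let f₁ := restrictHom G (fun x => π x = q₀) fun g x => by rw [hπ]
  let f₂ := restrictHom G (fun x => π x ≠ q₀) fun g x => by rw [hπ]
  have hcard : Nat.card {x // π x = q₀} + Nat.card {x // π x ≠ q₀} = Nat.card α := by
    rw [← Nat.card_sum]
    exact Nat.card_congr (Equiv.sumCompl _)
  have hpos₁ : 0 < Nat.card {x // π x = q₀} := by
    haveI : Nonempty {x // π x = q₀} := ⟨⟨a₀, ha₀⟩⟩
    exact Nat.card_pos
  have hpos₂ : 0 < Nat.card {x // π x ≠ q₀} := by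
    haveI : Nonempty {x // π x ≠ q₀} := ⟨⟨a₁, by rw [show π a₁ = q₁ from ha₁]; exact hq.symm⟩⟩
    exact Nat.card_pos
  have h1 := bound_of_hom ih f₁ (by omega) (γ := PUnit.{1}) (fun _ => PUnit.unit)
    (fun _ => ⟨⟨a₀, ha₀⟩, rfl⟩) fun _ _ => rfl
  let g₂ := f₂.comp f₁.ker.subtype
  have h3 := bound_of_hom ih g₂ (by omega) (γ := {q // q ≠ q₀})
    (fun x => ⟨π x.1, x.2⟩) (fun q => by
      obtain ⟨x, hx⟩ := Quotient.exists_rep q.1
      exact ⟨⟨x, by rw [show π x = q.1 from hx]; exact q.2⟩, Subtype.ext hx⟩)
    (fun g x => Subtype.ext (hπ (g : G) x.1))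
  have hker : g₂.ker = ⊥ := by
    rw [Subgroup.eq_bot_iff_forall]
    intro g hg
    apply Subtype.ext
    apply eq_of_smul_eq_smul (α := α)
    intro x
    rw [Subgroup.coe_one, one_smul]
    by_cases hx : π x = q₀
    · exact congrArg Subtype.val (Equiv.Perm.ext_iff.mp g.2 ⟨x, hx⟩)
    · exact congrArg Subtype.val (Equiv.Perm.ext_iff.mp hg ⟨x, hx⟩)
  rw [cl_of_eq_bot hker] at h3
  have hγ : Nat.card {q // q ≠ q₀} + 1 = nOrb G α := by
    have h4 : Nat.card {q // q = q₀} + Nat.card {q // q ≠ q₀} = nOrb G α := by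
      rw [← Nat.card_sum]
      exact Nat.card_congr (Equiv.sumCompl _)
    have : Nat.card {q // q = q₀} = 1 := by simp
    omega
  have : Nat.card PUnit.{1} = 1 := by simp
  omega

open scoped Pointwise in
theorem bound_imprimitive {n : ℕ} (ih : Below.{v} n) {α : Type v} [Finite α]
    (H : Subgroup (Equiv.Perm α)) (hn : Nat.card α ≤ n) [IsPretransitive H α]
    {B : Set α} (hB : IsBlock H B) (hBs : ¬ B.Subsingleton) (hBu : B ≠ Set.univ) :
    3 * cl H + 4 ≤ 4 * Nat.card α := by
  classical
  obtain ⟨a₀, ha₀, a₁, ha₁, ha01⟩ := Set.not_subsingleton_iff.mp hBs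
  let β := ↥(orbit H B)
  have huniq : ∀ (C D : β) (x : α), x ∈ (C : Set α) → x ∈ (D : Set α) → C = D := by
    rintro ⟨_, g, rfl⟩ ⟨_, g', rfl⟩ x hC hD
    apply Subtype.ext
    by_contra hne
    exact (Set.disjoint_left.mp (hB hne) hC) hD
  have hex : ∀ x : α, ∃ C : β, x ∈ (C : Set α) := by
    intro x
    obtain ⟨g, rfl⟩ := IsPretransitive.exists_smul_eq (M := H) a₀ x
    exact ⟨⟨g • B, g, rfl⟩, Set.smul_mem_smul_set ha₀⟩
  choose φ hφ using hex
  have hφs : Function.Surjective φ := by
    rintro ⟨_, g, rfl⟩
    exact ⟨g • a₀, huniq _ _ _ (hφ _) (Set.smul_mem_smul_set ha₀)⟩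
  have hk : Nat.card β < Nat.card α := by
    refine lt_of_le_of_ne (Nat.card_le_card_of_surjective φ hφs) fun he => ha01 ?_
    have hinj := ((Nat.bijective_iff_surjective_and_card φ).mpr ⟨hφs, he.symm⟩).injective
    let B₀ : β := ⟨B, mem_orbit_self B⟩
    exact hinj ((huniq _ B₀ _ (hφ a₀) ha₀).trans (huniq _ B₀ _ (hφ a₁) ha₁).symm)
  have h2 : 2 ≤ Nat.card β := by
    change 1 < Nat.card β
    rw [Finite.one_lt_card_iff_nontrivial]
    obtain ⟨x, hx⟩ := (Set.ne_univ_iff_exists_notMem B).mp hBu
    exact ⟨⟨⟨B, mem_orbit_self B⟩, φ x, fun h => hx (by simpa [← h] using hφ x)⟩⟩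
  let f : H →* Equiv.Perm β := MulAction.toPermHom H β
  haveI : Nonempty β := ⟨⟨B, mem_orbit_self B⟩⟩
  have h1 := bound_of_hom ih f (by omega) (γ := PUnit.{1}) (fun _ => PUnit.unit)
    (fun _ => ⟨Classical.arbitrary β, rfl⟩) fun _ _ => rfl
  have hr : Nat.card β ≤ nOrb f.ker α := le_nOrb φ hφs (by
    intro g x
    refine huniq _ _ _ (hφ _) ?_
    have : (g : H) • φ x = φ x := Equiv.Perm.ext_iff.mp g.2 (φ x)
    rw [← this]
    exact Set.smul_mem_smul_set (hφ x))
  have h3 := bound_intransitive ih (G := f.ker) (α := α) hn (h2.trans hr)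
  have : Nat.card PUnit.{1} = 1 := by simp
  omega

end orbits

section arith

theorem affine_large (p m n c : ℕ) (hm : m ≤ Nat.clog 2 n) (hn : 25 ≤ n)
    (hc : c ≤ m * Nat.clog 2 n) (hp : p ^ m = n) :
    3 * m + 3 * c + 4 ≤ 4 * n := by
  have hL : ∀ L, 6 ≤ L → 3 * (L * (L + 1)) + 4 ≤ 4 * (2 ^ (L - 1) + 1) := by
    intro L hL
    induction L, hL using Nat.le_induction with
    | base => norm_num
    | succ L hL ih =>
      have : 2 ^ (L + 1 - 1) = 2 * 2 ^ (L - 1) := by
        rw [show L + 1 - 1 = (L - 1) + 1 by omega, pow_succ]; ring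
      nlinarith
  rcases Nat.lt_or_ge 32 n with h | h
  · have h6 : 6 ≤ Nat.clog 2 n := by
      by_contra h'
      have := Nat.le_pow_clog (b := 2) (by norm_num) n
      have : 2 ^ Nat.clog 2 n ≤ 2 ^ 5 := Nat.pow_le_pow_right (by norm_num) (by omega)
      omega
    have := Nat.pow_pred_clog_lt_self (b := 2) (by norm_num) (x := n) (by omega)
    have := hL _ h6
    have : m * Nat.clog 2 n ≤ Nat.clog 2 n * Nat.clog 2 n := Nat.mul_le_mul_right _ hm
    rw [Nat.pred_eq_sub_one] at *
    nlinarith
  · have h5 : Nat.clog 2 n ≤ 5 := Nat.clog_le_of_le_pow (by omega)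
    have : m * Nat.clog 2 n ≤ 5 * 5 := Nat.mul_le_mul (hm.trans h5) h5
    omega

theorem affine_arith (p m n c : ℕ) (hp : p.Prime) (hm : 2 ≤ m) (hn : p ^ m = n)
    (hc : 2 ^ c ≤ n ^ m) (hc4 : n = 4 → c ≤ 2) (hc8 : n = 8 → c ≤ 6) :
    3 * m + 3 * c + 4 ≤ 4 * n := by
  have hp2 := hp.two_le
  have hmL : m ≤ Nat.clog 2 n := by
    have : 2 ^ m ≤ n := hn ▸ Nat.pow_le_pow_left hp2 m
    have h2 := this.trans (Nat.le_pow_clog (b := 2) (by norm_num) n)
    exact (Nat.pow_le_pow_iff_right (a := 2) (by norm_num)).mp h2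
  have hcL : c ≤ m * Nat.clog 2 n := by
    apply (Nat.pow_le_pow_iff_right (a := 2) (by norm_num)).mp
    refine hc.trans ?_
    rw [mul_comm m, pow_mul]
    exact Nat.pow_le_pow_left (Nat.le_pow_clog (b := 2) (by norm_num) n) m
  rcases Nat.lt_or_ge n 25 with h | h
  · have hpn : p ^ 2 ≤ n := hn ▸ Nat.pow_le_pow_right (by omega) hm
    have hp5 : p < 5 := by nlinarith
    have hm5 : m < 5 := by
      by_contra h'
      have : 2 ^ 5 ≤ n := hn ▸ (Nat.pow_le_pow_left hp2 5).trans (Nat.pow_le_pow_right (by omega) (by omega))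
      omega
    subst hn
    interval_cases p <;> first | (exfalso; revert hp; norm_num; done) | skip
    all_goals interval_cases m
    all_goals first
      | (exfalso; revert h; norm_num; done)
      | (have h4 : Nat.clog 2 4 ≤ 2 := Nat.clog_le_of_le_pow (by norm_num)
         have h8 : Nat.clog 2 8 ≤ 3 := Nat.clog_le_of_le_pow (by norm_num)
         have h9 : Nat.clog 2 9 ≤ 4 := Nat.clog_le_of_le_pow (by norm_num)
         have h16 : Nat.clog 2 16 ≤ 4 := Nat.clog_le_of_le_pow (by norm_num)
         norm_num at hc4 hc8 hcL ⊢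
         omega)
  · exact affine_large p m n c hmL h hcL hn

theorem cardFactors_le_six {x : ℕ} (hd : x ∣ 5040) (hx : x ≤ 512) :
    ArithmeticFunction.cardFactors x ≤ 6 := by
  obtain ⟨y, hy⟩ := hd
  have hx0 : x ≠ 0 := fun h => by simp [h] at hy
  have hy0 : y ≠ 0 := fun h => by simp [h] at hy
  have h8 : ArithmeticFunction.cardFactors 5040 = 8 := by
    have h2 : Nat.Prime 2 := Nat.prime_two
    have h3 : Nat.Prime 3 := Nat.prime_three
    have h5 : Nat.Prime 5 := by norm_num
    have h7 : Nat.Prime 7 := by norm_num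
    rw [show 5040 = 2 ^ 4 * 3 ^ 2 * 5 * 7 by norm_num]
    rw [ArithmeticFunction.cardFactors_mul (by norm_num) (by norm_num),
      ArithmeticFunction.cardFactors_mul (by norm_num) (by norm_num),
      ArithmeticFunction.cardFactors_mul (by norm_num) (by norm_num),
      ArithmeticFunction.cardFactors_apply_prime_pow h2, ArithmeticFunction.cardFactors_apply_prime_pow h3,
      ArithmeticFunction.cardFactors_apply_prime h5, ArithmeticFunction.cardFactors_apply_prime h7]
  rw [hy, ArithmeticFunction.cardFactors_mul hx0 hy0] at h8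
  by_contra hlt
  have hy1 : ArithmeticFunction.cardFactors y ≤ 1 := by omega
  have hy7 : y ≤ 7 := by
    rcases Nat.le_one_iff_eq_zero_or_eq_one.mp hy1 with h | h
    · have := ArithmeticFunction.cardFactors_eq_zero_iff_eq_zero_or_one.mp h
      omega
    · have hp : y.Prime := ArithmeticFunction.cardFactors_eq_one_iff_prime.mp h
      by_contra h7
      have hd : y ∣ 2 ^ 4 * 3 ^ 2 * 5 * 7 := ⟨x, by rw [mul_comm y, ← hy]; norm_num⟩
      rcases (Nat.Prime.dvd_mul hp).mp hd with h | h
      · rcases (Nat.Prime.dvd_mul hp).mp h with h | h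
        · rcases (Nat.Prime.dvd_mul hp).mp h with h | h
          · have := Nat.le_of_dvd (by norm_num) (hp.dvd_of_dvd_pow h); omega
          · have := Nat.le_of_dvd (by norm_num) (hp.dvd_of_dvd_pow h); omega
        · have := Nat.le_of_dvd (by norm_num) h; omega
      · have := Nat.le_of_dvd (by norm_num) h; omega
  nlinarith

end arith

section primitive

open MulAction

variable {α : Type v} [Finite α]

/-- A point stabiliser supplements a nontrivial normal subgroup. -/
theorem exists_smul_of_normal (H : Subgroup (Equiv.Perm α)) [IsPreprimitive H α] [Nontrivial α]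
    (N : Subgroup H) [N.Normal] (hN : N ≠ ⊥) (a : α) :
    (∀ b, ∃ x : N, (x : H) • a = b) ∧ ∀ h : H, ∃ x ∈ N, ∃ k ∈ stabilizer H a, x * k = h := by
  set K := stabilizer H a with hK
  have hnle : ¬ N ≤ K := by
    intro hle
    apply hN
    rw [Subgroup.eq_bot_iff_forall]
    intro x hx
    refine Subtype.ext (Equiv.ext fun b => ?_)
    obtain ⟨g, rfl⟩ := IsPretransitive.exists_smul_eq (M := H) a b
    have : g⁻¹ * x * g ∈ K := hle (by simpa using Subgroup.Normal.conj_mem ‹N.Normal› x hx g⁻¹)
    rw [hK, mem_stabilizer_iff, mul_smul, mul_smul, inv_smul_eq_iff] at this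
    exact this
  have hco : IsCoatom K := (isCoatom_stabilizer_iff_preprimitive H a).mpr inferInstance
  have hsup : N ⊔ K = ⊤ := hco.2 _ (lt_of_le_of_ne le_sup_right fun h => hnle (h ▸ le_sup_left))
  have hdec : ∀ h : H, ∃ x ∈ N, ∃ k ∈ K, x * k = h := by
    intro h
    have : h ∈ N ⊔ K := hsup ▸ Subgroup.mem_top h
    rw [← SetLike.mem_coe, Subgroup.normal_mul] at this
    exact Set.mem_mul.mp this
  refine ⟨fun b => ?_, hdec⟩
  obtain ⟨g, rfl⟩ := IsPretransitive.exists_smul_eq (M := H) a b
  obtain ⟨x, hx, k, hk, rfl⟩ := hdec g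
  exact ⟨⟨x, hx⟩, by rw [mul_smul, mem_stabilizer_iff.mp hk]⟩

/-- Moved coordinates. -/
noncomputable def supp {m : ℕ} {T : Type*} [Group T] (x : Fin m → T) : ℕ :=
  Nat.card {i : Fin m // x i ≠ 1}

theorem supp_update {m : ℕ} {T : Type*} [Group T] (x : Fin m → T) (i : Fin m) (hi : x i ≠ 1) :
    supp (Function.update x i 1) + 1 = supp x := by
  classical
  rw [supp, supp, Nat.card_eq_fintype_card, Nat.card_eq_fintype_card, Fintype.card_subtype,
    Fintype.card_subtype]
  have h : (Finset.univ.filter fun j => Function.update x i 1 j ≠ 1) =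
      (Finset.univ.filter fun j => x j ≠ 1).erase i := by
    ext j
    by_cases hj : j = i
    · subst hj; simp
    · simp [hj]
  rw [h, Finset.card_erase_add_one (by simp [hi])]

theorem supp_mul_single_le {m : ℕ} {T : Type*} [Group T] (s : T) (i : Fin m) (y : Fin m → T) :
    supp (Pi.mulSingle i s * y) ≤ supp y + 1 := by
  classical
  rw [supp, supp, Nat.card_eq_fintype_card, Nat.card_eq_fintype_card, Fintype.card_subtype,
    Fintype.card_subtype]
  refine le_trans (Finset.card_le_card ?_) (Finset.card_insert_le i _)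
  intro j hj
  by_cases hji : j = i
  · simp [hji]
  · simpa [hji] using hj

/-- Enough suborbits: distances from the base point. -/
theorem lt_nOrb_of_dist (H : Subgroup (Equiv.Perm α)) (N : Subgroup H) [N.Normal] (a : α)
    (htr : ∀ b, ∃ x : N, (x : H) • a = b) {T : Type*} [Group T] [Finite T] [IsSimpleGroup T]
    (hT : ¬ IsMulCommutative T) {m : ℕ} (e : N ≃* (Fin m → T)) (x₀ : N) (J : ℕ)
    (hJ : ∀ y : N, (y : H) • a = (x₀ : H) • a → J ≤ supp (e y)) :
    J + 1 ≤ nOrb (stabilizer H a) α := by
  classical
  let δ : α → ℕ := fun b => sInf {j | ∃ x : N, (x : H) • a = b ∧ supp (e x) = j}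
  have hne : ∀ b, {j | ∃ x : N, (x : H) • a = b ∧ supp (e x) = j}.Nonempty := fun b => by
    obtain ⟨x, hx⟩ := htr b
    exact ⟨_, x, hx, rfl⟩
  have hmin : ∀ b (y : N), (y : H) • a = b → δ b ≤ supp (e y) := fun b y hy => Nat.sInf_le ⟨y, hy, rfl⟩
  -- every smaller distance occurs
  have hall : ∀ d b, δ b = d → ∀ j ≤ d, ∃ b', δ b' = j := by
    intro d
    induction d with
    | zero => intro b hb j hj; exact ⟨b, by omega⟩
    | succ d ihd =>
      intro b hb j hj
      rcases Nat.lt_or_ge j (d + 1) with hjd | hjd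
      swap
      · exact ⟨b, by omega⟩
      obtain ⟨x, hxa, hxs⟩ := Nat.sInf_mem (hne b)
      obtain ⟨i, hi⟩ : ∃ i, e x i ≠ 1 := by
        by_contra h
        push Not at h
        have : supp (e x) = 0 := by
          rw [supp]
          haveI : IsEmpty {i : Fin m // e x i ≠ 1} := ⟨fun i => i.2 (h i.1)⟩
          exact Nat.card_of_isEmpty
        have hδ : δ b = supp (e x) := hxs.symm
        omega
      let x' : N := e.symm (Function.update (e x) i 1)
      have hδ : δ b = supp (e x) := hxs.symm
      have hle : δ ((x' : H) • a) ≤ d := by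
        refine (hmin _ x' rfl).trans ?_
        have := supp_update (e x) i hi
        simp only [x', e.apply_symm_apply]
        omega
      have hge : d ≤ δ ((x' : H) • a) := by
        obtain ⟨y, hya, hys⟩ := Nat.sInf_mem (hne ((x' : H) • a))
        have hx : x = e.symm (Pi.mulSingle i (e x i)) * x' := by
          apply e.injective
          simp only [x', map_mul, e.apply_symm_apply]
          funext j
          by_cases hji : j = i
          · subst hji; simp
          · simp [hji]
        have h1 : ((e.symm (Pi.mulSingle i (e x i)) * y : N) : H) • a = b := by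
          rw [Subgroup.coe_mul, mul_smul, hya, ← mul_smul, ← Subgroup.coe_mul, ← hx, hxa]
        have h2 := hmin _ _ h1
        rw [map_mul, e.apply_symm_apply] at h2
        have h3 := supp_mul_single_le (e x i) i (e y)
        have hδ' : δ ((x' : H) • a) = supp (e y) := hys.symm
        omega
      exact ihd _ (le_antisymm hle hge) j (by omega)
  have hJ' : J ≤ δ ((x₀ : H) • a) := by
    obtain ⟨y, hya, hys⟩ := Nat.sInf_mem (hne ((x₀ : H) • a))
    exact (hJ y hya).trans hys.le
  -- invariance
  have hsupp : ∀ (k : H) (x : N), supp (e (MulAut.conjNormal k x)) = supp (e x) := by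
    intro k x
    obtain ⟨τ, f, hf⟩ := H58.SimplePower.mulAut_pi hT ((e.symm.trans (MulAut.conjNormal k)).trans e)
    have hf' : ∀ j, e (MulAut.conjNormal k x) j = f j (e x (τ j)) := fun j => by simpa using hf (e x) j
    refine Nat.card_congr (Equiv.subtypeEquiv τ fun j => ?_)
    rw [hf']
    simp
  have hle' : ∀ (k : stabilizer H a) (b : α), δ (k • b) ≤ δ b := by
    intro k b
    obtain ⟨x, hxa, hxs⟩ := Nat.sInf_mem (hne b)
    refine (hmin _ (MulAut.conjNormal (k : H) x) ?_).trans (by rw [hsupp]; exact hxs.le)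
    rw [MulAut.conjNormal_apply, mul_smul, mul_smul,
      mem_stabilizer_iff.mp ((stabilizer H a).inv_mem k.2), hxa]
    rfl
  have hinv : ∀ (k : stabilizer H a) (b : α), δ (k • b) = δ b := fun k b =>
    le_antisymm (hle' k b) (by simpa using hle' k⁻¹ (k • b))
  have h := le_nOrb (G := stabilizer H a) (fun b => (⟨min (δ b) J, by omega⟩ : Fin (J + 1)))
    (fun j => by
      obtain ⟨b', hb'⟩ := hall _ _ rfl j.1 (le_trans (Nat.le_of_lt_succ j.2) hJ')
      refine ⟨b', Fin.ext ?_⟩
      have := j.2
      simp only [hb']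
      omega)
    (fun k b => Fin.ext (by simp only [hinv k b]))
  simpa using h

theorem four_le_card {T : Type*} [Group T] [Finite T] [IsSimpleGroup T] (hT : ¬ IsMulCommutative T) :
    4 ≤ Nat.card T := by
  by_contra h
  apply hT
  have h1 : 1 < Nat.card T := Finite.one_lt_card_iff_nontrivial.mpr inferInstance
  haveI : Fact (Nat.card T).Prime := ⟨by
    rcases (show Nat.card T = 2 ∨ Nat.card T = 3 by omega) with h | h <;> rw [h] <;> norm_num⟩
  haveI : IsCyclic T := isCyclic_of_prime_card rfl
  exact ⟨⟨fun x y => (IsCyclic.commGroup (α := T)).mul_comm x y⟩⟩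

/-- A vector far from every vector constant on the fibres of `c`. -/
theorem exists_far {T : Type*} [Group T] [Finite T] [IsSimpleGroup T] (hT : ¬ IsMulCommutative T)
    {m k : ℕ} (hk : 2 ≤ k) (c : Fin m → Fin m)
    (hc : ∀ j : Fin m, Nat.card {i : Fin m // c i = j} = k ∨ Nat.card {i : Fin m // c i = j} = 0) :
    m = Nat.card (Set.range c) * k ∧ ∃ x : Fin m → T, ∀ d : Fin m → T,
      (∀ i j, c i = c j → d i = d j) → 3 * (Nat.card (Set.range c) * (k - 1)) ≤ 4 * supp (x * d) := by
  classical
  haveI := Fintype.ofFinite T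
  let C := Finset.univ.image c
  have hC : Nat.card (Set.range c) = C.card := by
    rw [Nat.card_eq_fintype_card, ← Set.toFinset_card]
    congr 1
    ext j; simp [C]
  let F : Fin m → Finset (Fin m) := fun j => Finset.univ.filter fun i => c i = j
  have hF : ∀ j ∈ C, (F j).card = k := by
    intro j hj
    have h1 : Nat.card {i : Fin m // c i = j} = (F j).card := by
      rw [Nat.card_eq_fintype_card, Fintype.card_subtype]
    rcases hc j with h | h
    · omega
    · exfalso
      obtain ⟨i, -, hi⟩ := Finset.mem_image.mp hj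
      have : 0 < (F j).card := Finset.card_pos.mpr ⟨i, by simp [F, hi]⟩
      omega
  refine ⟨?_, ?_⟩
  · rw [hC]
    calc m = (Finset.univ : Finset (Fin m)).card := (Finset.card_fin m).symm
      _ = ∑ j ∈ C, (F j).card := Finset.card_eq_sum_card_image c _
      _ = C.card * k := by rw [Finset.sum_congr rfl hF, Finset.sum_const, smul_eq_mul]
  -- position in the fibre
  let idx : Fin m → ℕ := fun i => ((F (c i)).filter fun j => j < i).card
  have hidx : ∀ i j, c i = c j → idx i = idx j → i = j := by
    intro i j hij h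
    by_contra hne
    rcases lt_or_gt_of_ne hne with hlt | hlt
    · have : (F (c i)).filter (fun l => l < i) ⊂ (F (c j)).filter (fun l => l < j) := by
        rw [Finset.ssubset_iff_of_subset fun l hl => by
          simp only [Finset.mem_filter, F] at hl ⊢
          exact ⟨⟨hl.1.1, hl.1.2.trans hij⟩, hl.2.trans hlt⟩]
        exact ⟨i, by simp [F, hij, hlt], by simp⟩
      exact (Finset.card_lt_card this).ne h
    · have : (F (c j)).filter (fun l => l < j) ⊂ (F (c i)).filter (fun l => l < i) := by
        rw [Finset.ssubset_iff_of_subset fun l hl => by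
          simp only [Finset.mem_filter, F] at hl ⊢
          exact ⟨⟨hl.1.1, hl.1.2.trans hij.symm⟩, hl.2.trans hlt⟩]
        exact ⟨j, by simp [F, hij, hlt], by simp⟩
      exact (Finset.card_lt_card this).ne h.symm
  have hidxlt : ∀ i, idx i < k := by
    intro i
    have hiC : c i ∈ C := Finset.mem_image_of_mem c (Finset.mem_univ i)
    rw [← hF _ hiC]
    exact Finset.card_lt_card (Finset.ssubset_iff_of_subset (Finset.filter_subset _ _) |>.mpr
      ⟨i, by simp [F], by simp⟩)
  obtain ⟨ι⟩ : Nonempty (Fin 4 ↪ T) := by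
    rw [Function.Embedding.nonempty_iff_card_le, Fintype.card_fin, ← Nat.card_eq_fintype_card]
    exact four_le_card hT
  let r : Fin m → Fin 4 := fun i => ⟨idx i % 4, Nat.mod_lt _ (by norm_num)⟩
  refine ⟨fun i => (ι (r i))⁻¹, fun d hd => ?_⟩
  set y := (fun i => (ι (r i))⁻¹) * d with hy
  have hfib : ∀ j ∈ C, 3 * (k - 1) ≤ 4 * ((F j).filter fun i => y i ≠ 1).card := by
    intro j hj
    have hsplit := Finset.card_filter_add_card_filter_not (s := F j) (fun i => y i ≠ 1)
    rw [hF j hj] at hsplit
    have hbad : ((F j).filter fun i => ¬ y i ≠ 1).card ≤ (k + 3) / 4 := by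
      rw [← Finset.card_range ((k + 3) / 4)]
      refine Finset.card_le_card_of_injOn (fun i => idx i / 4) ?_ ?_
      · intro i _
        have := hidxlt i
        simp only [Finset.coe_range, Set.mem_Iio]
        omega
      · intro i hi i' hi' he
        simp only [Finset.coe_filter, Set.mem_setOf_eq, not_not, F, Finset.mem_filter,
          Finset.mem_univ, true_and] at hi hi'
        have hcc : c i = c i' := hi.1.trans hi'.1.symm
        have h1 : ι (r i) = d i := inv_mul_eq_one.mp hi.2
        have h2 : ι (r i') = d i' := inv_mul_eq_one.mp hi'.2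
        have h3 : r i = r i' := ι.injective (by rw [h1, h2, hd i i' hcc])
        have h4 : idx i % 4 = idx i' % 4 := congrArg Fin.val h3
        refine hidx i i' hcc ?_
        simp only at he
        omega
    omega
  have hsum : ∑ j ∈ C, ((F j).filter fun i => y i ≠ 1).card = supp y := by
    rw [supp, Nat.card_eq_fintype_card, Fintype.card_subtype,
      Finset.card_eq_sum_card_fiberwise (f := c) (t := C) fun i _ => Finset.mem_image_of_mem c (Finset.mem_univ i)]
    refine Finset.sum_congr rfl fun j _ => ?_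
    congr 1
    ext i; simp [F, and_comm]
  rw [hC, ← hsum, Finset.mul_sum, ← mul_assoc, mul_comm 3, mul_assoc, ← smul_eq_mul C.card, ← Finset.sum_const]
  exact Finset.sum_le_sum hfib

theorem bound_primitive {n : ℕ} (ih : Below.{v} n) (H : Subgroup (Equiv.Perm α)) (hn : Nat.card α ≤ n)
    [IsPreprimitive H α] [Nontrivial α] : 3 * cl H + 4 ≤ 4 * Nat.card α := by
  classical
  haveI := Fintype.ofFinite α
  have htop : (⊤ : Subgroup H) ≠ ⊥ := by
    intro h
    obtain ⟨a, b, hab⟩ := exists_pair_ne α
    obtain ⟨g, hg⟩ := IsPretransitive.exists_smul_eq (M := H) a b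
    have hg1 : g = 1 := Subgroup.mem_bot.mp (h ▸ Subgroup.mem_top g)
    rw [hg1, one_smul] at hg
    exact hab hg
  obtain ⟨N, ⟨hNn, hN⟩, hNmin⟩ := (Set.toFinite {K : Subgroup H | K.Normal ∧ K ≠ ⊥}).exists_minimal
    ⟨⊤, inferInstance, htop⟩
  have hmin : ∀ M : Subgroup H, M.Normal → M ≤ N → M = ⊥ ∨ M = N := by
    intro M hM hle
    by_cases hb : M = ⊥
    · exact Or.inl hb
    · exact Or.inr (le_antisymm hle (hNmin ⟨hM, hb⟩ hle))
  haveI := hNn
  obtain ⟨a⟩ := (inferInstance : Nonempty α)
  obtain ⟨htr, hdec⟩ := exists_smul_of_normal H N hN a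
  set K := stabilizer H a with hK
  -- `cl H + cl (N ∩ K) = cl N + cl K`
  have hadd : cl H + cl (K.subgroupOf N) = cl N + cl K := by
    let φ : K →* H ⧸ N := (QuotientGroup.mk' N).comp K.subtype
    have hφ : Function.Surjective φ := by
      intro q
      obtain ⟨h, rfl⟩ := QuotientGroup.mk_surjective q
      obtain ⟨x, hx, k, hk, rfl⟩ := hdec h
      refine ⟨⟨k, hk⟩, ?_⟩
      change (QuotientGroup.mk' N) k = (QuotientGroup.mk' N) (x * k)
      rw [map_mul, (QuotientGroup.eq_one_iff x).mpr hx |> fun h => (h : (QuotientGroup.mk' N) x = 1), one_mul]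
    have hker : φ.ker = N.subgroupOf K := by
      ext x
      simp [φ, MonoidHom.mem_ker, Subgroup.mem_subgroupOf]
    have h1 := cl_eq_add φ hφ
    rw [hker] at h1
    have h2 : cl (N.subgroupOf K) = cl (K.subgroupOf N) := cl_congr
      { toFun := fun x => ⟨⟨(x.1 : H), x.2⟩, x.1.2⟩
        invFun := fun x => ⟨⟨(x.1 : H), x.2⟩, x.1.2⟩
        left_inv := fun _ => rfl
        right_inv := fun _ => rfl
        map_mul' := fun _ _ => rfl }
    have h3 := cl_normal N
    omega
  have hKorb : 2 ≤ nOrb K α := by
    obtain ⟨b, hb⟩ := exists_ne a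
    have := le_nOrb (G := K) (fun x => if x = a then (0 : Fin 2) else 1) (fun j => by
      fin_cases j
      · exact ⟨a, by simp⟩
      · exact ⟨b, by simp [hb]⟩)
      (fun k x => by
        have hka : k • a = a := k.2
        by_cases hx : x = a
        · simp [hx, hka]
        · have : k • x ≠ a := fun h => hx (smul_left_cancel k (h.trans hka.symm))
          simp [hx, this])
    simpa using this
  have hKb := bound_intransitive ih (G := K) (α := α) hn hKorb
  by_cases hab : IsMulCommutative N
  · obtain ⟨S, _, _, m, hm, ⟨e⟩⟩ := H61.exists_mulEquiv_pi_of_minimal_normal N inferInstance hN hmin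
    haveI : Finite S := Finite.of_injective (fun t => e.symm (Pi.mulSingle (⟨0, hm⟩ : Fin m) t))
      (e.symm.injective.comp (Pi.mulSingle_injective _))
    have hS : ∀ x y : S, x * y = y * x := fun x y => by
      have h := congrArg e (hab.is_comm.comm (e.symm fun _ => x) (e.symm fun _ => y))
      simpa using congrFun h ⟨0, hm⟩
    letI : CommGroup S := { (inferInstance : Group S) with mul_comm := hS }
    have hp : (Nat.card S).Prime := IsSimpleGroup.prime_card
    have hreg : ∀ x : N, (x : H) • a = a → x = 1 := by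
      intro x hx
      refine Subtype.ext (Subtype.ext (Equiv.ext fun b => ?_))
      obtain ⟨y, rfl⟩ := htr b
      change (x : H) • ((y : H) • a) = (y : H) • a
      rw [← mul_smul, ← Subgroup.coe_mul, hab.is_comm.comm x y, Subgroup.coe_mul, mul_smul, hx]
    have hcardN : Nat.card N = Nat.card α := by
      refine Nat.card_eq_of_bijective (fun x : N => (x : H) • a) ⟨fun x y hxy => ?_, htr⟩
      have : ((y⁻¹ * x : N) : H) • a = a := by
        rw [Subgroup.coe_mul, mul_smul, show (x : H) • a = (y : H) • a from hxy, ← mul_smul,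
          Subgroup.coe_inv, inv_mul_cancel, one_smul]
      exact (inv_mul_eq_one.mp (hreg _ this)).symm
    have hcl : cl N = m := by rw [cl_congr e, cl_pi]
    have hpm : Nat.card S ^ m = Nat.card α := by
      rw [← hcardN, Nat.card_congr e.toEquiv, Nat.card_pi, Finset.prod_const, Finset.card_univ, Fintype.card_fin]
    rcases Nat.lt_or_ge m 2 with hm2 | hm2
    · omega
    have hker0 : cl (K.subgroupOf N) = 0 := cl_of_eq_bot (by
      rw [Subgroup.eq_bot_iff_forall]
      exact fun x hx => hreg x hx)
    have hfix : ∀ k ∈ K, ∀ x : N, k • ((x : H) • a) = ((MulAut.conjNormal k x : N) : H) • a := by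
      intro k hk x
      rw [MulAut.conjNormal_apply, mul_smul, mul_smul, mem_stabilizer_iff.mp (K.inv_mem hk)]
    obtain ⟨s, hs⟩ := exists_ne (1 : S)
    haveI : Fact (Nat.card S).Prime := ⟨hp⟩
    have hgen : ∀ t : S, t ∈ Subgroup.zpowers s := fun t => mem_zpowers_of_prime_card rfl hs
    let gi : Fin m → N := fun i => e.symm (Pi.mulSingle i s)
    have hinj : Function.Injective (fun (k : K) (i : Fin m) => k • ((gi i : H) • a)) := by
      intro k k' hkk
      rw [← inv_mul_eq_one]
      set l := k⁻¹ * k' with hl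
      have hfl : ∀ i, l • ((gi i : H) • a) = (gi i : H) • a := fun i => by
        have h1 : k • ((gi i : H) • a) = k' • ((gi i : H) • a) := congrFun hkk i
        rw [hl, mul_smul, ← h1, inv_smul_smul]
      let φ : N →* N := (MulAut.conjNormal (l : H)).toMonoidHom
      have hφ : φ.eqLocus (MonoidHom.id N) = ⊤ := by
        rw [eq_top_iff]
        intro x _
        rw [← e.symm_apply_apply x]
        change e x ∈ (φ.eqLocus (MonoidHom.id N)).comap e.symm.toMonoidHom
        apply Subgroup.pi_mem_of_mulSingle_mem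
        intro i
        obtain ⟨j, hj⟩ := hgen (e x i)
        have hi : Pi.mulSingle i s ∈ (φ.eqLocus (MonoidHom.id N)).comap e.symm.toMonoidHom := by
          change φ (gi i) = gi i
          have h1 : ((φ (gi i) : N) : H) • a = (gi i : H) • a := by
            rw [← hfl i]; exact (hfix _ l.2 _).symm
          have h2 : (((gi i)⁻¹ * φ (gi i) : N) : H) • a = a := by
            rw [Subgroup.coe_mul, mul_smul, h1, ← mul_smul, Subgroup.coe_inv, inv_mul_cancel, one_smul]
          exact (inv_mul_eq_one.mp (hreg _ h2)).symm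
        rw [← hj]
        simp only [zpow_natCast, Pi.mulSingle_zpow]
        exact Subgroup.zpow_mem _ hi j
      apply Subtype.ext
      apply eq_of_smul_eq_smul (α := α)
      intro b
      obtain ⟨x, rfl⟩ := htr b
      rw [Subgroup.coe_one, one_smul, hfix _ l.2]
      have : φ x = x := (hφ ▸ Subgroup.mem_top x : x ∈ φ.eqLocus (MonoidHom.id N))
      exact congrArg (fun z : N => (z : H) • a) this
    have hKle : Nat.card K ≤ Nat.card α ^ m := by
      refine (Nat.card_le_card_of_injective _ hinj).trans_eq ?_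
      rw [Nat.card_pi, Finset.prod_const, Finset.card_univ, Fintype.card_fin]
    have hKdvd : Nat.card K ∣ (Nat.card α - 1).factorial := by
      let f := restrictHom K (fun x => x ≠ a) fun k x => by
        have hka : k • a = a := k.2
        exact ⟨fun h hx => h (by rw [hx, hka]), fun h hx => h (smul_left_cancel k (hx.trans hka.symm))⟩
      have hf : Function.Injective f := by
        intro k k' hkk
        apply Subtype.ext
        apply eq_of_smul_eq_smul (α := α)
        intro x
        by_cases hx : x = a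
        · subst hx; exact k.2.trans k'.2.symm
        · exact congrArg Subtype.val (Equiv.Perm.ext_iff.mp hkk ⟨x, hx⟩)
      have := Subgroup.card_dvd_of_injective f hf
      rwa [Nat.card_perm, Nat.card_eq_fintype_card (α := {x // x ≠ a}), Fintype.card_subtype_compl,
        Fintype.card_subtype_eq, ← Nat.card_eq_fintype_card] at this
    have hc4 : Nat.card α = 4 → cl K ≤ 2 := by
      intro h4
      have h6 : 2 ^ cl K ≤ 6 := two_pow_cl_le.trans
        (Nat.le_of_dvd (by norm_num) (by have := hKdvd; rw [h4] at this; exact this))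
      by_contra h
      have : 2 ^ 3 ≤ 2 ^ cl K := Nat.pow_le_pow_right (by norm_num) (by omega)
      omega
    have hc8 : Nat.card α = 8 → cl K ≤ 6 := by
      intro h8
      refine cl_le_cardFactors.trans (cardFactors_le_six (by have := hKdvd; rw [h8] at this; exact this) ?_)
      have hm3 : m ≤ 3 := by
        by_contra h
        have h1 : 2 ^ 4 ≤ Nat.card S ^ m :=
          (Nat.pow_le_pow_right (by norm_num) (by omega)).trans (Nat.pow_le_pow_left hp.two_le m)
        omega
      refine hKle.trans ?_
      rw [h8]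
      exact (Nat.pow_le_pow_right (by norm_num) hm3).trans (by norm_num)
    have := affine_arith (Nat.card S) m (Nat.card α) (cl K) hp hm2 hpm (two_pow_cl_le.trans hKle) hc4 hc8
    omega
  · obtain ⟨T, _, m, e, hTs, hT, hm, hcase⟩ := H58.onan_scott_core H N hN hmin hab a
    haveI := hTs
    haveI : Finite T := Finite.of_injective (fun t => e.symm (Pi.mulSingle (⟨0, hm⟩ : Fin m) t))
      (e.symm.injective.comp (Pi.mulSingle_injective _))
    have hcl : cl N = m := by rw [cl_congr e, cl_pi]
    have hmem : ∀ x y : N, (y : H) • a = (x : H) • a → ((x⁻¹ * y : N) : H) ∈ K := by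
      intro x y h
      rw [hK, mem_stabilizer_iff, Subgroup.coe_mul, mul_smul, h, ← mul_smul, Subgroup.coe_inv,
        inv_mul_cancel, one_smul]
    rcases hcase with ⟨R, hR, hX⟩ | ⟨k, c, hk, hc, hX⟩
    · have hR' : ∀ i, ∃ t, t ∉ R i := fun i => by
        by_contra h
        push Not at h
        exact hR i (eq_top_iff.mpr fun t _ => h t)
      choose t ht using hR'
      have := lt_nOrb_of_dist H N a htr hT e (e.symm t) m (fun y hy => by
        have h1 := (hX _).mp (hmem _ y hy)
        have h2 : ∀ i, e y i ≠ 1 := fun i hi => by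
          have h3 := h1 i
          simp only [map_mul, map_inv, e.apply_symm_apply, Pi.mul_apply, Pi.inv_apply, hi, mul_one] at h3
          exact ht i (inv_mem_iff.mp h3)
        rw [supp, Nat.card_congr (Equiv.subtypeUnivEquiv h2), Nat.card_eq_fintype_card, Fintype.card_fin])
      rw [← hK] at this
      omega
    · obtain ⟨hmk, x, hx⟩ := exists_far (T := T) hT hk c hc
      set q := Nat.card (Set.range c) with hq
      have hJ : (3 * (q * (k - 1)) + 3) / 4 + 1 ≤ nOrb K α :=
        lt_nOrb_of_dist H N a htr hT e (e.symm x) _ (fun y hy => by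
          have h1 := (hX _).mp (hmem _ y hy)
          simp only [map_mul, map_inv, e.apply_symm_apply, Pi.mul_apply, Pi.inv_apply] at h1
          have := hx (x⁻¹ * e y) fun i j h => by simpa using h1 i j h
          rw [mul_inv_cancel_left] at this
          omega)
      -- the stabiliser in `N` maps onto the vectors on the classes
      have hNa : q ≤ cl (K.subgroupOf N) := by
        choose sec hsec using fun j : Set.range c => j.2
        let ψ : K.subgroupOf N →* (Set.range c → T) :=
          { toFun := fun z j => e (z : N) (sec j)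
            map_one' := by funext j; simp
            map_mul' := fun z w => by funext j; simp }
        have hψ : Function.Surjective ψ := by
          intro d
          let z : N := e.symm fun i => d ⟨c i, i, rfl⟩
          have hz : z ∈ K.subgroupOf N := (hX z).mpr fun i j h => by
            simp only [z, e.apply_symm_apply]
            exact congrArg d (Subtype.ext h)
          refine ⟨⟨z, hz⟩, funext fun j => ?_⟩
          simp only [ψ, z, MonoidHom.coe_mk, OneHom.coe_mk, e.apply_symm_apply]
          exact congrArg d (Subtype.ext (hsec j))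
        have h1 := cl_eq_add ψ hψ
        have h2 : cl (Set.range c → T) = q := by
          let eq' : (Set.range c → T) ≃* (Fin q → T) :=
            { toFun := fun f i => f ((Finite.equivFin (Set.range c)).symm i)
              invFun := fun f j => f (Finite.equivFin (Set.range c) j)
              left_inv := fun f => by funext j; exact congrArg f (Equiv.symm_apply_apply _ j)
              right_inv := fun f => by funext i; exact congrArg f (Equiv.apply_symm_apply _ i)
              map_mul' := fun _ _ => rfl }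
          rw [cl_congr eq', cl_pi]
        omega
      have hkk : q * (k - 1) + q = q * k := by
        obtain ⟨k', rfl⟩ : ∃ k', k = k' + 1 := ⟨k - 1, by omega⟩
        simp; ring
      omega

end primitive

open MulAction in
theorem below_all : ∀ n, Below.{v} n := by
  intro n
  induction n with
  | zero => intro α _ H h; omega
  | succ n ih =>
    intro α _ H h
    have hn : Nat.card α ≤ n := by omega
    rcases Nat.lt_or_ge (nOrb H α) 2 with hr | hr
    swap
    · exact bound_intransitive ih (G := H) hn hr
    rcases subsingleton_or_nontrivial α with hα | hα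
    · have h1 : nOrb H α ≤ Nat.card α := Nat.card_le_card_of_surjective _ Quotient.mk_surjective
      have : cl H = 0 := by
        haveI : Subsingleton (Equiv.Perm α) := inferInstance
        exact cl_of_subsingleton
      omega
    haveI : IsPretransitive H α := by
      haveI : Subsingleton (Quotient (orbitRel H α)) :=
        Finite.card_le_one_iff_subsingleton.mp (Nat.le_of_lt_succ hr)
      exact ⟨fun x y => Quotient.exact (Subsingleton.elim (⟦y⟧ : Quotient (orbitRel H α)) ⟦x⟧)⟩
    have hgoal : 3 * cl H + 4 ≤ 4 * Nat.card α := by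
      by_cases hp : IsPreprimitive H α
      · exact bound_primitive ih H hn
      · obtain ⟨B, hB, hBs, hBu⟩ : ∃ B : Set α, IsBlock H B ∧ ¬ B.Subsingleton ∧ B ≠ Set.univ := by
          by_contra hcon
          push Not at hcon
          refine hp { isTrivialBlock_of_isBlock := fun {B} hB => ?_ }
          by_cases hBs : B.Subsingleton
          · exact Or.inl hBs
          · exact Or.inr (hcon B hB (Set.not_subsingleton_iff.mp hBs))
        exact bound_imprimitive ih H hn hB hBs hBu
    omega

open MulAction in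
theorem composition_length_bound {G : Type u} {Ω : Type v} [Group G] [Finite G] [MulAction G Ω]
    [FaithfulSMul G Ω] [Finite Ω] : 3 * cl G + 4 * nOrb G Ω ≤ 4 * Nat.card Ω := by
  let f : G →* Equiv.Perm Ω := MulAction.toPermHom G Ω
  have h := bound_of_hom (below_all (Nat.card Ω + 1)) f (Nat.lt_succ_self _)
    (γ := Quotient (orbitRel G Ω)) (fun x => ⟦x⟧) Quotient.mk_surjective
    (fun g x => Quotient.sound ⟨g, rfl⟩)
  rw [cl_of_eq_bot ((MonoidHom.ker_eq_bot_iff f).mpr MulAction.toPerm_injective)] at h
  simpa [nOrb] using h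

end H7.CompLength
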