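/-
`L = [F*(H), Q]` for a `p`-subgroup `Q` when `O_p(H) = 1`, and quasisimple `O^p(H)`.
-/
import Cfsg.Agent.H7.PActFStar
import Cfsg.Agent.H75.Basic
import Cfsg.Agent.H83.CoprimeAbelian
import Cfsg.Prelude.Def_LocalStructure

set_option autoImplicit false

open scoped commutatorElement
open Cfsg Cfsg.Comp

namespace H7

variable {G : Type*} [Group G] [Finite G] {p : ℕ} [Fact p.Prime]

omit [Fact p.Prime] in
/-- Central elements of `[L, L]` are Frattini elements of `L`. -/
theorem central_inf_commutator_le_frattini {L Z : Subgroup G}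
    (hc : Z ≤ Subgroup.centralizer (L : Set G)) :
    Z ⊓ ⁅L, L⁆ ≤ (frattini L).map L.subtype := by
  rintro z ⟨hzZ, hzD⟩
  have hzL : z ∈ L := L.commutator_le_self hzD
  refine ⟨⟨z, hzL⟩, ?_, rfl⟩
  refine Subgroup.mem_iInf.mpr fun M => Subgroup.mem_iInf.mpr fun hM => ?_
  by_contra hzM
  have hzc : (⟨z, hzL⟩ : L) ∈ Subgroup.center L := Subgroup.mem_center_iff.mpr fun y =>
    Subtype.ext (Subgroup.mem_centralizer_iff.mp (hc hzZ) y y.2)
  have htop : M ⊔ Subgroup.center L = ⊤ :=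
    hM.2 _ (left_lt_sup.mpr fun h => hzM (h hzc))
  have hcomm : commutator L ≤ M := by
    show ⁅(⊤ : Subgroup L), ⊤⁆ ≤ M
    rw [Subgroup.commutator_le]
    intro a _ b _
    obtain ⟨a₁, ha₁, a₂, ha₂, rfl⟩ :=
      Subgroup.mem_sup_of_normal_right.mp (htop.ge (Subgroup.mem_top a))
    obtain ⟨b₁, hb₁, b₂, hb₂, rfl⟩ :=
      Subgroup.mem_sup_of_normal_right.mp (htop.ge (Subgroup.mem_top b))
    have ca : ∀ w, a₂ * w = w * a₂ := fun w => (Subgroup.mem_center_iff.mp ha₂ w).symm
    have cb : ∀ w, b₂ * w = w * b₂ := fun w => (Subgroup.mem_center_iff.mp hb₂ w).symm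
    have : ⁅a₁ * a₂, b₁ * b₂⁆ = ⁅a₁, b₁⁆ := by
      simp only [commutatorElement_def, mul_inv_rev]
      calc a₁ * a₂ * (b₁ * b₂) * (a₂⁻¹ * a₁⁻¹) * (b₂⁻¹ * b₁⁻¹)
          = a₁ * (a₂ * (b₁ * b₂)) * a₂⁻¹ * a₁⁻¹ * b₂⁻¹ * b₁⁻¹ := by group
        _ = a₁ * b₁ * (b₂ * a₁⁻¹) * b₂⁻¹ * b₁⁻¹ := by rw [ca]; group
        _ = a₁ * b₁ * a₁⁻¹ * b₁⁻¹ := by rw [cb]; group
    rw [this]
    exact mul_mem (mul_mem (mul_mem ha₁ hb₁) (inv_mem ha₁)) (inv_mem hb₁)
  refine hzM (hcomm ?_)
  have h := Subgroup.map_subtype_commutator L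
  rw [← h] at hzD
  obtain ⟨w, hw, hwz⟩ := hzD
  exact (Subtype.ext hwz : w = ⟨z, hzL⟩) ▸ hw

/-- If `L = [L, Q]` is a subnormal subgroup of `F*(G)`, a central subgroup of `L` centralised by
`Q` lies in `Φ(L)`. -/
theorem fixed_central_le_frattini (hO : pCore p G = ⊥) {Q L : Subgroup G} (hQ : IsPGroup p Q)
    (hLF : L ≤ generalizedFittingSubgroup G) (hLsn : L.IsSubnormal)
    (hQL : Q ≤ Subgroup.normalizer (L : Set G)) (hL : ⁅L, Q⁆ = L) {Z : Subgroup G} (hZL : Z ≤ L)
    (hZQ : Z ≤ Subgroup.centralizer (Q : Set G)) (hZc : Z ≤ Subgroup.centralizer (L : Set G)) :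
    Z ≤ (frattini L).map L.subtype := by
  refine le_trans (le_inf le_rfl ?_) (central_inf_commutator_le_frattini hZc)
  set D := ⁅L, L⁆
  set R := fittingSubgroup G ⊓ L
  have hQD : Q ≤ Subgroup.normalizer (D : Set G) :=
    (le_inf hQL hQL).trans (H75.normalizer_inf_le_normalizer_commutator L L)
  have hQR : Q ≤ Subgroup.normalizer (R : Set G) := inf_le_normalizer le_normalizer_of_normal hQL
  have hLD : L ≤ Subgroup.normalizer (D : Set G) := H1.left_le_normalizer_commutator
  have hLsup : L ≤ D ⊔ R := by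
    refine (subnormal_le_fStar hLsn hLF).trans (sup_le_sup_right ?_ _)
    calc (layer L).map L.subtype = ⁅layer L, layer L⁆.map L.subtype := by rw [layer_perfect]
      _ ≤ D := by
        rw [Subgroup.map_commutator]
        exact Subgroup.commutator_mono (Subgroup.map_subtype_le _) (Subgroup.map_subtype_le _)
  set U := ⁅R, Q⁆ ⊔ D
  have hRQ : ⁅R, Q⁆ ≤ R := H1.commutator_le_left_of_le_normalizer hQR
  have hLU : L ≤ U := by
    refine hL.ge.trans (Subgroup.commutator_le.mpr fun l hl q hq => ?_)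
    obtain ⟨d, hd, r, hr, rfl⟩ :=
      H1.exists_mul_of_mem_sup ((inf_le_right : R ≤ L).trans hLD) (hLsup hl)
    have h1 : ⁅d * r, q⁆ = d * ⁅r, q⁆ * d⁻¹ * ⁅d, q⁆ := by
      simp only [commutatorElement_def]; group
    rw [h1]
    exact mul_mem (mul_mem (mul_mem (Subgroup.mem_sup_right hd)
      (Subgroup.mem_sup_left (Subgroup.commutator_mem_commutator hr hq)))
      (Subgroup.mem_sup_right (inv_mem hd)))
      (Subgroup.mem_sup_right (H1.commutator_le_left_of_le_normalizer hQD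
        (Subgroup.commutator_mem_commutator hd hq)))
  intro z hz
  obtain ⟨d, hd, c, hc, rfl⟩ := H1.exists_mul_of_mem_sup
    ((hRQ.trans inf_le_right).trans hLD) (show z ∈ D ⊔ ⁅R, Q⁆ from sup_comm (⁅R, Q⁆) D ▸ hLU (hZL hz))
  suffices hcM : c ∈ R ⊓ D from mul_mem hd (Subgroup.mem_inf.mp hcM).2
  have hcop : (Nat.card Q).Coprime (Nat.card R) := by
    obtain ⟨k, hk⟩ := IsPGroup.iff_card.mp hQ
    rw [hk]
    exact Nat.Coprime.pow_left k ((Fact.out : p.Prime).coprime_iff_not_dvd.mpr fun h =>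
      not_dvd_card_fitting hO (h.trans (Subgroup.card_dvd_of_le inf_le_left)))
  refine H83.fixed_mem_of_commutator (M := R ⊓ D) hQR
    (inf_le_normalizer Subgroup.le_normalizer (inf_le_right.trans hLD))
    (inf_le_normalizer hQR hQD) inf_le_left
    (le_inf R.commutator_le_self (Subgroup.commutator_mono inf_le_right inf_le_right))
    hcop (Subgroup.mem_sup_left hc) fun q hq => Subgroup.mem_inf.mpr ⟨?_, ?_⟩
  · exact mul_mem (conj_mem_of_le_normalizer hQR hq (hRQ hc)) (inv_mem (hRQ hc))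
  · have hzq : q * (d * c) * q⁻¹ = d * c :=
      mul_inv_eq_iff_eq_mul.mpr (Subgroup.mem_centralizer_iff.mp (hZQ hz) q hq)
    have h2 : q * c * q⁻¹ * c⁻¹ = (q * d⁻¹ * q⁻¹) * (q * (d * c) * q⁻¹) * c⁻¹ := by group
    rw [h2, hzq]
    have h3 : q * d⁻¹ * q⁻¹ * (d * c) * c⁻¹ = (q * d⁻¹ * q⁻¹) * d := by group
    rw [h3]
    exact mul_mem (conj_mem_of_le_normalizer hQD hq (inv_mem hd)) hd

/-- `O^p(G)` quasisimple and `O_p(G) = 1`: it is `F*(G)`. -/
theorem pResidual_eq_fStar (hO : pCore p G = ⊥) (hq : IsQuasisimple (pResidual p G)) :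
    pResidual p G = generalizedFittingSubgroup G := by
  set K := pResidual p G
  have hKn : K.Normal := H75.pResidual_normal p G
  have hKc : IsComponent K := ⟨hKn.isSubnormal, hq⟩
  refine le_antisymm ((le_layer hKc).trans layer_le_fStar) (sup_le ?_ ?_)
  · refine layer_le_iff.mpr fun L hL => ?_
    refine (perfect_le_closure_not_dvd p (isComponent_perfect hL)).trans
      ((Subgroup.closure_le _).mpr fun g hg => ?_)
    exact Subgroup.subset_closure (coprime_iff_not_dvd.mpr hg.2)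
  · intro x hx
    refine Subgroup.subset_closure (coprime_iff_not_dvd.mpr fun hd => not_dvd_card_fitting hO ?_)
    exact hd.trans (Subgroup.orderOf_dvd_natCard _ hx)

theorem commutator_pResidual_eq (hO : pCore p G = ⊥) (hq : IsQuasisimple (pResidual p G))
    {Y : Subgroup G} (hY : IsPGroup p Y) (hY1 : Y ≠ ⊥) :
    ⁅pResidual p G, Y⁆ = pResidual p G := by
  set K := pResidual p G
  have hKn : K.Normal := H75.pResidual_normal p G
  have hKperf : ⁅K, K⁆ = K := isComponent_perfect ⟨hKn.isSubnormal, hq⟩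
  refine le_antisymm (H1.commutator_le_left_of_le_normalizer le_normalizer_of_normal) ?_
  rcases normal_eq_top_or_le_center hq (N := ⁅K, Y⁆.subgroupOf K)
      (Subgroup.normal_subgroupOf_of_le_normalizer H1.left_le_normalizer_commutator) with h | h
  · exact Subgroup.subgroupOf_eq_top.mp h
  · refine absurd (eq_bot_of_commutator_fStar hO hY ?_) hY1
    rw [← pResidual_eq_fStar hO hq]
    refine le_centralizer_of_perfect hKperf (le_centralizer_of_commute fun x hx y hy => ?_)
    have hxK : x ∈ K := H1.commutator_le_left_of_le_normalizer le_normalizer_of_normal hx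
    exact (congrArg Subtype.val
      (Subgroup.mem_center_iff.mp (h (show (⟨x, hxK⟩ : K) ∈ _ from hx)) ⟨y, hy⟩)).symm

/-- Normal subgroups not containing `O^p(G)` have order prime to `p`. -/
theorem not_dvd_of_not_pResidual_le (hO : pCore p G = ⊥) (hq : IsQuasisimple (pResidual p G))
    {C : Subgroup G} [C.Normal] (hC : ¬ pResidual p G ≤ C) : ¬ p ∣ Nat.card C := by
  set K := pResidual p G
  have hKn : K.Normal := H75.pResidual_normal p G
  have hKc : IsComponent K := ⟨hKn.isSubnormal, hq⟩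
  have h1 : ⁅K, C⁆ = ⊥ :=
    (component_le_or_commute hKc (inferInstance : C.Normal).isSubnormal).resolve_left hC
  intro hd
  obtain ⟨x, hx⟩ := exists_prime_orderOf_dvd_card' p hd
  have hxo : orderOf (x : G) = p := by rwa [Subgroup.orderOf_coe]
  have hY : IsPGroup p (Subgroup.zpowers (x : G)) :=
    IsPGroup.of_card (n := 1) (by rw [Nat.card_zpowers, hxo, pow_one])
  have hY1 := eq_bot_of_commutator_fStar hO hY (by
    rw [← pResidual_eq_fStar hO hq, eq_bot_iff, ← h1]
    exact Subgroup.commutator_mono le_rfl (Subgroup.zpowers_le.mpr x.2))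
  rw [Subgroup.zpowers_eq_bot] at hY1
  rw [hY1, orderOf_one] at hxo
  exact (Fact.out : p.Prime).ne_one hxo.symm

end H7
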