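import Cfsg.Agent.H7.U6Tv

/-!
Facts on the space used by the fibre analysis.
-/

set_option autoImplicit false
set_option maxRecDepth 100000
set_option synthInstance.maxSize 3000

namespace H7.U6Fibre

open H16.Fi24

theorem W_add_self (v : W) : v + v = 0 := funext fun j => by
  have : ∀ a : F4, a + a = 0 := by decide
  exact this _

theorem hf_swap (u v : W) : hf v u = cj (hf u v) := by
  have h1 : ∀ a b : F4, mu (cj a) b = cj (mu (cj b) a) := by decide
  have h2 : ∀ a b : F4, cj (a + b) = cj a + cj b := by decide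
  simp only [hf, Fin.sum_univ_six, h2, ← h1]

theorem cj_eq_zero : ∀ a : F4, cj a = 0 ↔ a = 0 := by decide

theorem F4_eq_zero_of : ∀ a : F4, a.2 = 0 → (mu (cj (0, 1)) a).2 = 0 → a = 0 := by decide

theorem hf_eq_zero_of_Bf {u v : W} (h1 : Bf u v = 0) (h2 : Bf (wW u) v = 0) : hf u v = 0 := by
  rw [hf_two] at h1 h2
  rw [wW, hf_smul_left] at h2
  exact F4_eq_zero_of _ h1 h2

theorem indep : ∀ (i : Fin 45) (a b : F4), sm a v2 + sm b (pvec i) = 0 → a = 0 ∧ b = 0 := by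
  decide +kernel

theorem pvec_sep : ∀ (k j : Fin 45) (a b : F4), pvec k = sm a v2 + sm b (pvec j) → k = j := by
  decide +kernel

theorem sm_pvec_sep {i j : Fin 45} {a b : F4} (h : sm a (pvec i) = sm b (pvec j)) (hij : i ≠ j) :
    a = 0 := by
  by_contra ha
  have e : ∀ a : F4, a ≠ 0 → mu (cj a) a = (1, 0) := by decide
  refine hij (pvec_sep i j 0 (mu (cj a) b) ?_)
  rw [← sm_sm, ← h, sm_sm, e a ha, sm_one, sm_zero, zero_add]

theorem tv_fix_iff (i : Fin 45) (v : W) : tv i v = v ↔ hf v2 v = 0 ∧ hf (pvec i) v = 0 := by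
  constructor
  · intro h
    rw [tv_apply, add_assoc, add_eq_left] at h
    exact indep i _ _ h
  · rintro ⟨h1, h2⟩
    rw [tv_apply, h1, h2, sm_zero, sm_zero, add_zero, add_zero]

/-- On the orthogonal of `v2` the displacement is a multiple of the centre. -/
theorem tv_disp (i : Fin 45) {v : W} (h : hf v2 v = 0) : tv i v + v = sm (hf (pvec i) v) (pvec i) := by
  rw [tv_apply, h, sm_zero, add_zero, add_right_comm, W_add_self, zero_add]

theorem tv_disp_mem (i : Fin 45) (r : W) : tv i r + r = sm (hf v2 r) v2 + sm (hf (pvec i) r) (pvec i) := by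
  rw [tv_apply, add_assoc r, add_comm r, add_assoc, W_add_self, add_zero]

theorem wW_fix (i : Fin 45) {v : W} (h : tv i v = v) : tv i (wW v) = wW v := by rw [tv_wW, h]

theorem perp_zero : ∀ y : W, hf v2 y = 0 → hf (pvec 0) y = 0 → hf (pvec 15) y = 0 → hf (pvec 25) y = 0 →
    tvMap 0 ![y 0, 0, 0, 0, y 4, 0] + ![y 0, 0, 0, 0, y 4, 0] = y :=
  forall_W (by decide +kernel)

theorem fix_zero : tv 0 v2 = v2 ∧ tv 0 (pvec 0) = pvec 0 ∧ tv 0 (pvec 15) = pvec 15 ∧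
    tv 0 (pvec 25) = pvec 25 := by
  show tvMap 0 v2 = v2 ∧ tvMap 0 (pvec 0) = pvec 0 ∧ tvMap 0 (pvec 15) = pvec 15 ∧
    tvMap 0 (pvec 25) = pvec 25
  decide +kernel

/-- What is orthogonal to the fixed space is displaced. -/
theorem perp_fix (j : Fin 45) (y : W) (h : ∀ v, tv j v = v → hf v y = 0) :
    ∃ a b, y = sm a v2 + sm b (pvec j) := by
  obtain ⟨g, hg, e⟩ := tv_trans 0 j
  have hu := isUni_K0 hg.1
  have hgg : ∀ v, g (g⁻¹ v) = v := fun v => g.apply_symm_apply v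
  have hg' : ∀ v, tv 0 v = v → hf v (g⁻¹ y) = 0 := fun v hv => by
    rw [← hf_inv hu, hgg]
    refine h _ ?_
    rw [← e]
    show g (tv 0 (g⁻¹ (g v))) = g v
    rw [show g⁻¹ (g v) = v from g.symm_apply_apply v, hv]
  obtain ⟨f0, f1, f2, f3⟩ := fix_zero
  have key := perp_zero (g⁻¹ y) (hg' _ f0) (hg' _ f1) (hg' _ f2) (hg' _ f3)
  set r : W := ![(g⁻¹ y) 0, 0, 0, 0, (g⁻¹ y) 4, 0]
  refine ⟨hf v2 (g r), hf (pvec j) (g r), ?_⟩
  rw [← tv_disp_mem, ← e]
  show y = g (tv 0 (g⁻¹ (g r))) + g r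
  rw [show g⁻¹ (g r) = r from g.symm_apply_apply r, ← hu.add]
  show y = g (tvMap 0 r + r)
  rw [key, hgg]

theorem exists_sep : ∀ i j : Fin 45, i ≠ j →
    ∃ k, hf (pvec i) (pvec k) = 0 ∧ hf (pvec j) (pvec k) ≠ 0 := by decide +kernel

theorem exists_dual {i j : Fin 45} (h : i ≠ j) (b : F4) :
    ∃ v, hf v2 v = 0 ∧ hf (pvec i) v = 0 ∧ hf (pvec j) v = b := by
  obtain ⟨k, h1, h2⟩ := exists_sep i j h
  have e : ∀ b a : F4, a ≠ 0 → mu (mu b (cj a)) a = b := by decide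
  exact ⟨sm (mu b (cj (hf (pvec j) (pvec k)))) (pvec k),
    by rw [hf_sm, (hf_self_pvec k).2.1, mu_zero], by rw [hf_sm, h1, mu_zero],
    by rw [hf_sm, e b _ h2]⟩

theorem exists_value (i : Fin 45) (b : F4) : ∃ v, hf v2 v = 0 ∧ hf (pvec i) v = b := by
  have : ∀ i : Fin 45, i + 1 ≠ i := by decide
  obtain ⟨v, h1, -, h3⟩ := exists_dual (this i) b
  exact ⟨v, h1, h3⟩

/-- Five of the centres span the orthogonal of `v2`. -/
theorem span_five : ∀ y : W, hf v2 y = 0 →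
    y = sm (y 0 + (y 4 + mu (0, 1) (y 4 + y 5))) (pvec 0) + sm (mu (0, 1) (y 4 + y 5)) (pvec 1) +
      sm (y 0 + (y 2 + mu (0, 1) (y 2 + y 3))) (pvec 15) + sm (mu (0, 1) (y 2 + y 3)) (pvec 25) +
      sm (y 0) (pvec 16) :=
  forall_W (by decide +kernel)

theorem value_facts : ∀ a b c : F4, a ≠ 0 → b ≠ 0 → c ≠ 0 → a ≠ b → a ≠ c → b ≠ c →
    c = a + b ∧ (mu (cj a) b).2 = 1 ∧ (mu b (cj a)).2 = 1 := by decide

theorem v2_scalars : sm (0, 1) v2 = wW v2 ∧ sm (1, 1) v2 = wW (wW v2) := by decide +kernel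

theorem card_perp : (Finset.univ.filter fun y : W => hf v2 y = 0).card = 1024 := by decide +kernel

end H7.U6Fibre
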