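import Cfsg.Agent.H16.Fi24.U6Core
import Cfsg.Agent.H7.U6FibreW

/-!
Members of the class in the centraliser of the four-group that commute with `z` and act as the same
transvection: they form one orbit of four elements under the centraliser of the four-group in `Q`.
-/

set_option autoImplicit false
set_option maxRecDepth 100000
set_option linter.unusedSectionVars false

namespace H7.U6Fibre

open Cfsg H16.Fi24

universe u

variable {G : Type u} [Group G] [Finite G] {z : G}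
  {Q : Subgroup (Subgroup.centralizer ({z} : Set G))} [Q.Normal] {C : U6Ctx z Q}
  {u w q r r' x : Subgroup.centralizer ({z} : Set G)} {i j : Fin 45}

/-- A member over a point. -/
structure Over (C : U6Ctx z Q) (u : Subgroup.centralizer ({z} : Set G)) (i : Fin 45) : Prop where
  mem : (u : G) ∈ C.gperp
  rho : C.D.ρ u = tv i

/-- Members whose product with `z` is outside the class. -/
def AT (u : Subgroup.centralizer ({z} : Set G)) : Prop := ¬ IsConj z ((u : G) * z)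

theorem cz_z (h : Subgroup.centralizer ({z} : Set G)) : (h : G) * z = z * (h : G) :=
  Subgroup.mem_centralizer_singleton_iff.1 h.2

theorem gperp_of {v : G} (hv : v ∈ C.gperp) : v ∈ Subgroup.centralizer ({z} : Set G) :=
  Subgroup.mem_centralizer_singleton_iff.2 hv.2.2.eq

theorem exists_over {v : G} (hv : v ∈ C.gperp) :
    ∃ u : Subgroup.centralizer ({z} : Set G), (u : G) = v ∧ ∃ i, Over C u i := by
  obtain ⟨i, hi⟩ := C.rho_dset ⟨v, gperp_of hv⟩ hv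
  exact ⟨_, rfl, i, hv, hi⟩

namespace Over

theorem isConj (hu : Over C u i) : IsConj z (u : G) := isConj_iff.2 (C.dset_sing hu.mem.1)

theorem sq (hu : Over C u i) : u * u = 1 := Subtype.ext (C.fam.sq_one (C.dset_sing hu.mem.1))

theorem inv_eq (hu : Over C u i) : u⁻¹ = u := inv_eq_of_mul_eq_one_right hu.sq

theorem cen (hu : Over C u i) : (u : G) ∈ C.cen := C.dset_le_cen hu.mem.1

theorem notMem (hu : Over C u i) : u ∉ Q := fun h => hu.mem.2.1 (C.notMemQ hu.mem.1 u rfl h)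

theorem unique_pt (hu : Over C u i) (hu' : Over C u j) : i = j := tv_inj (hu.rho.symm.trans hu'.rho)

theorem conj (hu : Over C u i) {h : Subgroup.centralizer ({z} : Set G)} (hh : (h : G) ∈ C.cen)
    (e : C.D.ρ h * tv i * (C.D.ρ h)⁻¹ = tv j) : Over C (h * u * h⁻¹) j := by
  refine ⟨⟨?_, fun e' => hu.mem.2.1 ?_, cz_z _⟩, ?_⟩
  · rw [Subgroup.coe_mul, Subgroup.coe_mul, Subgroup.coe_inv]; exact C.dset_conj hh hu.mem.1
  · rw [Subgroup.coe_mul, Subgroup.coe_mul, Subgroup.coe_inv, mul_inv_eq_iff_eq_mul, ← cz_z h] at e'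
    exact mul_left_cancel e'
  · rw [_root_.map_mul, _root_.map_mul, map_inv, hu.rho, e]

theorem conjQ (hu : Over C u i) (hr : r ∈ Q) (hrc : (r : G) ∈ C.cen) : Over C (r * u * r⁻¹) i :=
  hu.conj hrc (by rw [C.D.rho_Q hr, one_mul, inv_one, mul_one])

theorem prod_mem (hu : Over C u i) (hw : Over C w i) : u * w ∈ Q := by
  rw [← C.D.ker, MonoidHom.mem_ker, _root_.map_mul, hu.rho, hw.rho, tv_sq]

end Over

theorem AT.conj (ha : AT u) (h : Subgroup.centralizer ({z} : Set G)) : AT (h * u * h⁻¹) := by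
  intro hc
  refine ha (hc.trans (isConj_iff.2 ⟨(h : G)⁻¹, ?_⟩))
  rw [Subgroup.coe_mul, Subgroup.coe_mul, Subgroup.coe_inv, inv_inv]
  calc (h : G)⁻¹ * (↑h * ↑u * (↑h)⁻¹ * z) * ↑h = ↑u * ((↑h)⁻¹ * (z * ↑h)) := by group
    _ = ↑u * z := by rw [← cz_z h]; group

theorem mem_cen_iff (hx : x ∈ Q) : (x : G) ∈ C.cen ↔ hf v2 (C.D.Φ x) = 0 := by
  rw [C.Q_mem_cen hx, Bf_symm _ v2, Bf_symm _ (wW v2)]
  refine ⟨fun h => hf_eq_zero_of_Bf h.1 h.2, fun h => ?_⟩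
  rw [hf_two, hf_two, h, wW, hf_smul_left, h, mu_zero]
  exact ⟨rfl, rfl⟩

theorem Phi_inv (hx : x ∈ Q) : C.D.Φ x⁻¹ = C.D.Φ x := by
  have h := C.D.map_mul x hx x⁻¹ (inv_mem hx)
  rw [mul_inv_cancel, (C.D.eq_zero 1 (one_mem _)).2 (Or.inl rfl)] at h
  calc C.D.Φ x⁻¹ = C.D.Φ x⁻¹ + (C.D.Φ x + C.D.Φ x) := by rw [W_add_self, add_zero]
    _ = C.D.Φ x + (C.D.Φ x + C.D.Φ x⁻¹) := by abel
    _ = C.D.Φ x := by rw [← h, add_zero]

/-- Displacement. -/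
theorem disp (x : Subgroup.centralizer ({z} : Set G)) (hr : r ∈ Q) :
    x * r * x⁻¹ * r⁻¹ ∈ Q ∧ C.D.Φ (x * r * x⁻¹ * r⁻¹) = C.D.ρ x (C.D.Φ r) + C.D.Φ r := by
  have h : x * r * x⁻¹ ∈ Q := Subgroup.Normal.conj_mem inferInstance r hr x
  refine ⟨mul_mem h (inv_mem hr), ?_⟩
  rw [C.D.map_mul _ h _ (inv_mem hr), Phi_inv hr, C.D.conj x r hr]

theorem exists_lift (i : Fin 45) (b : F4) :
    ∃ r ∈ Q, (r : G) ∈ C.cen ∧ hf (pvec i) (C.D.Φ r) = b := by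
  obtain ⟨v, h1, h2⟩ := exists_value i b
  obtain ⟨r, hr, rfl⟩ := C.D.surj v
  exact ⟨r, hr, (mem_cen_iff hr).2 h1, h2⟩

theorem AT.fix_comm (ha : AT u) (hu : Over C u i) (hq : q ∈ Q) (hf : tv i (C.D.Φ q) = C.D.Φ q) :
    u * q * u⁻¹ = q := by
  rcases C.D.eq_or_mul (Subgroup.Normal.conj_mem inferInstance q hq u) hq
    (by rw [← C.D.conj u q hq, hu.rho, hf]) with h | h
  · exact Subtype.ext h
  · exfalso
    rw [Subgroup.coe_mul, Subgroup.coe_mul, Subgroup.coe_inv] at h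
    refine ha (hu.isConj.trans (isConj_iff.2 ⟨(q : G)⁻¹, ?_⟩))
    rw [inv_inv]
    calc (q : G)⁻¹ * ↑u * ↑q = (↑q)⁻¹ * (↑u * ↑q * (↑u)⁻¹) * ↑u := by group
      _ = z * ↑u := by rw [h]; group
      _ = ↑u * z := (cz_z u).symm

theorem comm_fix (hu : Over C u i) (hq : q ∈ Q) (h : u * q * u⁻¹ = q) :
    tv i (C.D.Φ q) = C.D.Φ q := by rw [← hu.rho, C.D.conj u q hq, h]

theorem orbit_eq (ha : AT u) (hu : Over C u i) (hr : r ∈ Q) (hrc : (r : G) ∈ C.cen) (hr' : r' ∈ Q)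
    (hrc' : (r' : G) ∈ C.cen) :
    r * u * r⁻¹ = r' * u * r'⁻¹ ↔ hf (pvec i) (C.D.Φ r) = hf (pvec i) (C.D.Φ r') := by
  have hs : r'⁻¹ * r ∈ Q := mul_mem (inv_mem hr') hr
  have hΦ : C.D.Φ (r'⁻¹ * r) = C.D.Φ r' + C.D.Φ r := by
    rw [C.D.map_mul _ (inv_mem hr') _ hr, Phi_inv hr']
  have e1 : r * u * r⁻¹ = r' * u * r'⁻¹ ↔ u * (r'⁻¹ * r) * u⁻¹ = r'⁻¹ * r := by
    constructor <;> intro h
    · calc u * (r'⁻¹ * r) * u⁻¹ = r'⁻¹ * (r' * u * r'⁻¹) * r * u⁻¹ := by group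
        _ = r'⁻¹ * r := by rw [← h]; group
    · calc r * u * r⁻¹ = r' * (r'⁻¹ * r) * u * r⁻¹ := by group
        _ = r' * (u * (r'⁻¹ * r) * u⁻¹) * u * r⁻¹ := by rw [h]
        _ = r' * u * r'⁻¹ := by group
  have e2 : u * (r'⁻¹ * r) * u⁻¹ = r'⁻¹ * r ↔ tv i (C.D.Φ (r'⁻¹ * r)) = C.D.Φ (r'⁻¹ * r) :=
    ⟨comm_fix hu hs, ha.fix_comm hu hs⟩
  have e3 : ∀ a b : F4, b + a = 0 ↔ a = b := by decide
  rw [e1, e2, tv_fix_iff, hΦ, hf_add, hf_add, (mem_cen_iff hr).1 hrc, (mem_cen_iff hr').1 hrc', e3,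
    e3]
  simp

theorem orbit_img (hu : Over C u i) (hr : r ∈ Q) (hrc : (r : G) ∈ C.cen) :
    u * (r * u * r⁻¹) ∈ Q ∧ C.D.Φ (u * (r * u * r⁻¹)) = sm (hf (pvec i) (C.D.Φ r)) (pvec i) := by
  have e : u * (r * u * r⁻¹) = u * r * u⁻¹ * r⁻¹ := by rw [hu.inv_eq]; group
  rw [e]
  refine ⟨(disp (C := C) u hr).1, ?_⟩
  rw [(disp u hr).2, hu.rho, tv_disp i ((mem_cen_iff hr).1 hrc)]

theorem same_fix (hu : Over C u i) (hw : Over C w i) :
    tv i (C.D.Φ (u * w)) = C.D.Φ (u * w) := by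
  rw [← hu.rho, C.D.conj u _ (hu.prod_mem hw), ← mul_assoc u u, hu.sq, one_mul, hu.inv_eq,
    ← Phi_inv (hu.prod_mem hw), mul_inv_rev, hu.inv_eq, hw.inv_eq]

end H7.U6Fibre
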