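import Cfsg.Agent.H7.U6Fibre1

/-!
Two members over one point differ by an element of `Q` in the orbit of the first or by the four-group
and `z`; the latter is excluded by an element permuting the involutions of the four-group.
-/

set_option autoImplicit false
set_option maxRecDepth 100000
set_option linter.unusedSectionVars false

namespace H7.U6Fibre

open Cfsg H16.Fi24

universe u

variable {G : Type u} [Group G] [Finite G] {z : G}
  {Q : Subgroup (Subgroup.centralizer ({z} : Set G))} [Q.Normal] {C : U6Ctx z Q}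
  {u w q r x : Subgroup.centralizer ({z} : Set G)} {i : Fin 45}

/-- Seen from `u`, the member `z` and another member `w` over the point of `u` lie over one point. -/
theorem seen (hu : Over C u i) (ha : AT u) (hw : Over C w i) (hne : u ≠ w) {g : G} (hg : g ∈ C.cen)
    (e : g * z * g⁻¹ = u) : ∃ (z' w' : Subgroup.centralizer ({z} : Set G)) (j : Fin 45),
      (z' : G) = g⁻¹ * z * g ∧ (w' : G) = g⁻¹ * w * g ∧ Over C z' j ∧ Over C w' j ∧ AT z' := by
  have hcuw : (u : G) * w = w * u := by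
    have h := ha.fix_comm hu (hu.prod_mem hw) (same_fix hu hw)
    rw [← mul_assoc u u, hu.sq, one_mul, hu.inv_eq] at h
    exact congrArg Subtype.val h.symm
  have hgg : g⁻¹ ∈ C.cen := inv_mem hg
  have hu' : g⁻¹ * (u : G) * g = z := by rw [← e]; group
  have mk : ∀ v : G, v ∈ C.dset → v ≠ u → Commute v u → g⁻¹ * v * g ∈ C.gperp := by
    intro v hv hvu hc
    refine ⟨?_, fun h => hvu ?_, ?_⟩
    · have := C.dset_conj hgg hv
      rwa [inv_inv] at this
    · rw [← e]
      nth_rw 1 [← h]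
      group
    · have := hc.map (MulAut.conj g⁻¹).toMonoidHom
      simp only [MulEquiv.coe_toMonoidHom, MulAut.conj_apply, inv_inv, hu'] at this
      exact this
  obtain ⟨z', ez, j, hz⟩ := exists_over (mk z C.z_mem_dset (fun h => hu.mem.2.1 h.symm) (cz_z u).symm)
  obtain ⟨w', ew, k, hk⟩ := exists_over (mk w hw.mem.1 (fun h => hne (Subtype.ext h.symm)) hcuw.symm)
  have haz : AT z' := by
    intro h
    refine ha (h.trans (isConj_iff.2 ⟨g, ?_⟩))
    rw [ez]
    calc g * (g⁻¹ * z * g * z) * g⁻¹ = z * (g * z * g⁻¹) := by group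
      _ = (u : G) * z := by rw [e, cz_z]
  refine ⟨z', w', j, ez, ew, hz, ?_, haz⟩
  -- the displacement of a fixed vector is orthogonal to the fixed vectors
  have main : ∀ v, tv j v = v → ∀ y, tv j y = y → Bf (tv k v + v) y = 0 := by
    intro v hv y hy
    obtain ⟨r', hr', rfl⟩ := C.D.surj v
    obtain ⟨s', hs', rfl⟩ := C.D.surj y
    have lift : ∀ t : Subgroup.centralizer ({z} : Set G), t ∈ Q → tv j (C.D.Φ t) = C.D.Φ t →
        g * t * g⁻¹ ∈ C.F u ∧ (g * t * g⁻¹) * z = z * (g * t * g⁻¹) := by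
      intro t ht hf
      refine ⟨e ▸ C.fam.mem_Q_conj g (C.mem_F_z.2 ht), ?_⟩
      have h : (z' : G) * t = t * z' := congrArg Subtype.val (mul_inv_eq_iff_eq_mul.1 (haz.fix_comm hz ht hf))
      rw [ez] at h
      calc g * (t : G) * g⁻¹ * z = g * (t * (g⁻¹ * z * g)) * g⁻¹ := by group
        _ = g * ((g⁻¹ * z * g) * t) * g⁻¹ := by rw [h]
        _ = z * (g * t * g⁻¹) := by group
    obtain ⟨hrF, hrz⟩ := lift r' hr' hv
    obtain ⟨hsF, hsz⟩ := lift s' hs' hy
    set rc : Subgroup.centralizer ({z} : Set G) :=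
      ⟨g * r' * g⁻¹, Subgroup.mem_centralizer_singleton_iff.2 hrz⟩ with hrc
    set sc : Subgroup.centralizer ({z} : Set G) :=
      ⟨g * s' * g⁻¹, Subgroup.mem_centralizer_singleton_iff.2 hsz⟩ with hsc
    have hq := hu.prod_mem hw
    set xc := (u * w) * rc * (u * w)⁻¹ * rc⁻¹ with hxc
    have hxQ : xc ∈ Q := by
      rw [hxc, show u * w * rc * (u * w)⁻¹ * rc⁻¹ = (u * w) * (rc * (u * w)⁻¹ * rc⁻¹) by group]
      exact mul_mem hq (Subgroup.Normal.conj_mem inferInstance _ (inv_mem hq) rc)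
    have hxF : (xc : G) ∈ C.F u := by
      refine mul_mem ?_ (inv_mem hrF)
      refine C.fam.conj_mem hrF ?_
      show ((u : G) * w) * u = u * ((u : G) * w)
      rw [mul_assoc, ← hcuw]
    have hcomm : xc * sc = sc * xc := by
      rcases C.fam.comm_cases (C.dset_sing hu.mem.1) hxF hsF with h | h
      · exact Subtype.ext (mul_inv_eq_iff_eq_mul.1 h)
      · exfalso
        refine hu.notMem ?_
        have e' : u = sc⁻¹ * xc * sc * xc⁻¹ := Subtype.ext (by
          show (u : G) = (g * s' * g⁻¹)⁻¹ * (xc : G) * (g * s' * g⁻¹) * (xc : G)⁻¹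
          calc (u : G) = (g * s' * g⁻¹)⁻¹ * ((g * s' * g⁻¹) * u) := by group
            _ = _ := by rw [← h]; group)
        rw [e']
        have := Subgroup.Normal.conj_mem (inferInstance : Q.Normal) xc hxQ sc⁻¹
        rw [inv_inv] at this
        exact mul_mem this (inv_mem hxQ)
    set y' := w' * r' * w'⁻¹ * r'⁻¹ with hy'
    have ey : g * (y' : G) * g⁻¹ = xc := by
      have hzz : z⁻¹ = z := inv_eq_of_mul_eq_one_right C.z_sq
      have hyz : (y' : G) * z = z * y' := cz_z y'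
      have hr'z : (r' : G)⁻¹ * z = z * (r' : G)⁻¹ := cz_z r'⁻¹
      show g * (y' : G) * g⁻¹ = (u : G) * w * (g * r' * g⁻¹) * ((u : G) * w)⁻¹ * (g * r' * g⁻¹)⁻¹
      have ew' : (w : G) = g * (w' : G) * g⁻¹ := by rw [ew]; group
      rw [← e, ew']
      symm
      calc g * z * g⁻¹ * (g * ↑w' * g⁻¹) * (g * ↑r' * g⁻¹) * (g * z * g⁻¹ * (g * ↑w' * g⁻¹))⁻¹ *
            (g * ↑r' * g⁻¹)⁻¹
          = g * (z * (↑w' * ↑r' * (↑w')⁻¹) * z⁻¹ * (↑r')⁻¹) * g⁻¹ := by group
        _ = g * (z * (↑w' * ↑r' * (↑w')⁻¹ * (↑r')⁻¹) * z) * g⁻¹ := by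
            rw [hzz, mul_assoc _ z, ← hr'z, ← mul_assoc]
            simp only [mul_assoc]
        _ = g * (y' : G) * g⁻¹ := by
            congr 2
            show z * (y' : G) * z = y'
            rw [← hyz, mul_assoc, C.z_sq, mul_one]
    obtain ⟨hyQ, hyΦ⟩ := disp (C := C) w' hr'
    rw [hk.rho] at hyΦ
    rw [← hyΦ, ← C.D.comm _ hyQ s' hs']
    refine Subtype.ext ?_
    have h : (xc : G) * (g * s' * g⁻¹) = g * s' * g⁻¹ * xc := congrArg Subtype.val hcomm
    rw [← ey] at h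
    show (y' : G) * s' = s' * y'
    calc (y' : G) * s' = g⁻¹ * (g * ↑y' * g⁻¹ * (g * ↑s' * g⁻¹)) * g := by group
      _ = ↑s' * ↑y' := by rw [h]; group
  have perp : ∀ v, tv j v = v → ∃ a b, tv k v + v = sm a v2 + sm b (pvec j) := fun v hv =>
    perp_fix j _ fun y hy => hf_eq_zero_of_Bf (by rw [Bf_symm]; exact main v hv y hy)
      (by rw [Bf_symm]; exact main v hv _ (wW_fix j hy))
  suffices h : k = j by subst h; exact hk
  by_cases hall : ∀ v, tv j v = v → hf (pvec k) v = 0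
  · obtain ⟨a, b, hab⟩ := perp_fix j (pvec k) fun v hv => by
      rw [hf_swap, hall v hv]; rfl
    exact pvec_sep k j a b hab
  · push Not at hall
    obtain ⟨v, hv, hne0⟩ := hall
    obtain ⟨a, b, hab⟩ := perp v hv
    rw [tv_disp k ((tv_fix_iff j v).1 hv).1] at hab
    have e' : ∀ c : F4, c ≠ 0 → mu (cj c) c = (1, 0) := by decide
    refine pvec_sep k j (mu (cj (hf (pvec k) v)) a) (mu (cj (hf (pvec k) v)) b) ?_
    conv_lhs => rw [← sm_one (pvec k), ← e' _ hne0, ← sm_sm, hab]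
    rw [← sm_sm, ← sm_sm]
    exact funext fun n => mu_add _ _ _

/-- The quotient of two members over one point lies over the plane of the point. -/
theorem fibre_img (hu : Over C u i) (ha : AT u) (hw : Over C w i) :
    ∃ a b, C.D.Φ (u * w) = sm a v2 + sm b (pvec i) := by
  rcases eq_or_ne u w with rfl | hne
  · exact ⟨0, 0, by
      rw [hu.sq, (C.D.eq_zero 1 (one_mem _)).2 (Or.inl rfl), sm_zero, sm_zero, add_zero]⟩
  obtain ⟨g, hg, e⟩ := hu.mem.1
  obtain ⟨z', w', j, ez, ew, hz, hw', -⟩ := seen hu ha hw hne hg e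
  have hzw : z * (w : G) ∈ C.F u := by
    have h := C.fam.mem_Q_conj g (C.mem_F_z.2 (hz.prod_mem hw'))
    rw [Subgroup.coe_mul, ez, ew, e] at h
    have e2 : g * (g⁻¹ * z * g * (g⁻¹ * (w : G) * g)) * g⁻¹ = z * w := by group
    rwa [e2] at h
  have hq := hu.prod_mem hw
  have hzq : zc z * (u * w) ∈ Q := mul_mem C.D.zc_mem hq
  have hzqF : ((zc z * (u * w) : Subgroup.centralizer ({z} : Set G)) : G) ∈ C.F u := by
    show z * ((u : G) * w) ∈ C.F u
    rw [← mul_assoc, ← cz_z u, mul_assoc]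
    exact mul_mem (C.fam.self_mem (C.dset_sing hu.mem.1)) hzw
  have hΦ : C.D.Φ (zc z * (u * w)) = C.D.Φ (u * w) := by
    rw [C.D.map_mul _ C.D.zc_mem _ hq, (C.D.eq_zero _ C.D.zc_mem).2 (Or.inr rfl), zero_add]
  have key : ∀ v, tv i v = v → Bf v (C.D.Φ (u * w)) = 0 := by
    intro v hv
    obtain ⟨s, hs, rfl⟩ := C.D.surj v
    rw [← hΦ, ← C.D.comm s hs _ hzq]
    set n := zc z * (u * w)
    have hsu : Commute (s : G) u :=
      (congrArg Subtype.val (mul_inv_eq_iff_eq_mul.1 (ha.fix_comm hu hs hv))).symm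
    rcases C.fam.comm_cases H16.Fi24.U6Ctx.sing_z (C.mem_F_z.2 hs) (C.mem_F_z.2 hzq) with h | h
    · exact Subtype.ext (mul_inv_eq_iff_eq_mul.1 h)
    · exfalso
      refine C.dset_not_mem_F hu.mem ?_
      have h1 := C.fam.conj_mem hzqF hsu
      rw [h] at h1
      have := mul_mem (inv_mem hzqF) h1
      rwa [inv_mul_cancel_left] at this
  exact perp_fix i _ fun v hv => hf_eq_zero_of_Bf (key v hv) (key _ (wW_fix i hv))

theorem exists_four (a : F4) : ∃ x ∈ Q, (x : G) ∈ C.four ∧ C.D.Φ x = sm a v2 := by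
  have hc : ∀ a : F4, a = 0 ∨ a = (1, 0) ∨ a = (0, 1) ∨ a = (1, 1) := by decide
  rcases hc a with rfl | rfl | rfl | rfl
  · exact ⟨1, one_mem _, one_mem _, by rw [(C.D.eq_zero 1 (one_mem _)).2 (Or.inl rfl), sm_zero]⟩
  · exact ⟨C.e, C.he, C.mem_four.2 (by simp), by rw [C.e_img, sm_one]⟩
  · exact ⟨C.f, C.hf', C.mem_four.2 (by simp), by rw [C.f_img, v2_scalars.1]⟩
  · exact ⟨C.e * C.f, mul_mem C.he C.hf', C.mem_four.2 (by simp), by rw [C.Phi_e_f, v2_scalars.2]⟩

/-- A member over the point of `u`, moved back to `u` up to `z` and the four-group. -/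
theorem fibre_cases (hu : Over C u i) (ha : AT u) (hw : Over C w i) :
    ∃ r ∈ Q, (r : G) ∈ C.cen ∧
      (w = r * u * r⁻¹ ∨ ∃ e' ∈ C.four, (r : G)⁻¹ * w * r = u * z * e') := by
  obtain ⟨a, b, hab⟩ := fibre_img hu ha hw
  obtain ⟨r, hr, hrc, rfl⟩ := exists_lift (C := C) i b
  refine ⟨r, hr, hrc, ?_⟩
  obtain ⟨x, hx, hx4, hxΦ⟩ := exists_four (C := C) a
  set w1 := r * u * r⁻¹ with hw1
  have h1 := hu.conjQ hr hrc
  rw [← hw1] at h1
  obtain ⟨h2, h2'⟩ := orbit_img hu hr hrc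
  rw [← hw1] at h2 h2'
  have h3 : w1 * w = (u * w1)⁻¹ * (u * w) := by rw [mul_inv_rev, h1.inv_eq]; group
  have hΦ : C.D.Φ (w1 * w) = C.D.Φ x := by
    rw [h3, C.D.map_mul _ (inv_mem h2) _ (hu.prod_mem hw), Phi_inv h2, h2', hab, hxΦ, add_left_comm,
      W_add_self, add_zero]
  have hw1eq : (w : G) = (w1 : G) * ((w1 : G) * w) := by
    rw [← mul_assoc]
    show (w : G) = ((w1 * w1 : Subgroup.centralizer ({z} : Set G)) : G) * w
    rw [h1.sq]; simp
  have hrx : (r : G) * x = x * r := C.commute_four hrc hx4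
  rcases C.D.eq_or_mul (h1.prod_mem hw) hx hΦ with h | h
  · -- no twist by `z`
    rw [Subgroup.coe_mul] at h
    rw [h] at hw1eq
    left
    have hx1 := C.dset_unique h1.mem.1 hx4 (hw1eq ▸ hw.mem.1)
    rw [hx1, mul_one] at hw1eq
    exact Subtype.ext hw1eq
  · rw [Subgroup.coe_mul] at h
    rw [h] at hw1eq
    refine Or.inr ⟨x, hx4, ?_⟩
    rw [hw1eq, show (w1 : G) = r * u * (r : G)⁻¹ from rfl]
    calc (r : G)⁻¹ * (↑r * ↑u * (↑r)⁻¹ * (↑x * z)) * ↑r = ↑u * ((↑r)⁻¹ * (↑x * (z * ↑r))) := by group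
      _ = ↑u * ((↑r)⁻¹ * (↑x * ↑r) * z) := by rw [← cz_z r]; group
      _ = ↑u * (↑x * z) := by rw [← hrx]; group
      _ = ↑u * z * ↑x := by rw [mul_assoc, cz_z x]

end H7.U6Fibre
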