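import Cfsg.Agent.H7.U6Fibre2

/-!
An element permuting the involutions of the four-group cyclically excludes twists by `z`; every
member then lies in the orbit of any other over the same point.
-/

set_option autoImplicit false
set_option maxRecDepth 100000
set_option linter.unusedSectionVars false

namespace H7.U6Fibre

open Cfsg H16.Fi24

universe u

variable {G : Type u} [Group G] [Finite G] {z : G}
  {Q : Subgroup (Subgroup.centralizer ({z} : Set G))} [Q.Normal] {C : U6Ctx z Q}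
  {u w r : Subgroup.centralizer ({z} : Set G)} {i j : Fin 45}

theorem exists_Bf_pair : ∀ a b : ZMod 2, ∃ t : F4,
    Bf (Pi.single 0 t) (wW v2) = a ∧ Bf (Pi.single 0 t) (wW (wW v2)) = b := by decide +kernel

theorem flip {x y : Subgroup.centralizer ({z} : Set G)} (hx : x ∈ Q) (hy : y ∈ Q)
    (e : C.D.Φ x = C.D.Φ y) : ∃ a : ZMod 2, ∀ q ∈ Q, Bf (C.D.Φ q) (C.D.Φ y) = a → q * x * q⁻¹ = y := by
  rcases C.D.eq_or_mul hx hy e with h | h
  · refine ⟨0, fun q hq hB => ?_⟩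
    rw [show x = y from Subtype.ext h, mul_inv_eq_iff_eq_mul]
    exact (C.D.comm q hq y hy).2 hB
  · refine ⟨1, fun q hq hB => ?_⟩
    have hqy : q * y * q⁻¹ ∈ Q := Subgroup.Normal.conj_mem inferInstance y hy q
    rcases C.D.eq_or_mul hqy hy (by rw [← C.D.conj q y hy, C.D.rho_Q hq]; rfl) with h' | h'
    · have := (C.D.comm q hq y hy).1 (mul_inv_eq_iff_eq_mul.1 (Subtype.ext h'))
      rw [hB] at this
      exact absurd this (by decide)
    · have ex : x = y * zc z := Subtype.ext h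
      have hzz : zc z * zc z = 1 := Subtype.ext C.z_sq
      rw [ex, show q * (y * zc z) * q⁻¹ = q * y * q⁻¹ * (q * zc z * q⁻¹) by group,
        show q * y * q⁻¹ = y * zc z from Subtype.ext h', zc_comm q, mul_inv_cancel_right, mul_assoc, hzz,
        mul_one]

/-- An element permuting the four-group cyclically and acting as a scalar. -/
theorem exists_cycle (C : U6Ctx z Q) : ∃ c : Subgroup.centralizer ({z} : Set G),
    c * C.e * c⁻¹ = C.f ∧ c * C.f * c⁻¹ = C.e * C.f ∧ ⇑(C.D.ρ c) = wW := by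
  obtain ⟨ω, -, hω⟩ := C.D.omega
  have hn : ∀ x ∈ Q, ω * x * ω⁻¹ ∈ Q := fun x hx => Subgroup.Normal.conj_mem inferInstance x hx ω
  have he : C.D.Φ (ω * C.e * ω⁻¹) = C.D.Φ C.f := by rw [← C.D.conj ω _ C.he, hω, C.e_img, C.f_img]
  have hf : C.D.Φ (ω * C.f * ω⁻¹) = C.D.Φ (C.e * C.f) := by
    rw [← C.D.conj ω _ C.hf', hω, C.f_img, C.Phi_e_f]
  obtain ⟨a, ha⟩ := flip (hn _ C.he) C.hf' he
  obtain ⟨b, hb⟩ := flip (hn _ C.hf') (mul_mem C.he C.hf') hf
  obtain ⟨t, h1, h2⟩ := exists_Bf_pair a b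
  obtain ⟨q, hq, hqΦ⟩ := C.D.surj (Pi.single 0 t)
  refine ⟨q * ω, ?_, ?_, ?_⟩
  · rw [show q * ω * C.e * (q * ω)⁻¹ = q * (ω * C.e * ω⁻¹) * q⁻¹ by group]
    exact ha q hq (by rw [hqΦ, C.f_img, h1])
  · rw [show q * ω * C.f * (q * ω)⁻¹ = q * (ω * C.f * ω⁻¹) * q⁻¹ by group]
    exact hb q hq (by rw [hqΦ, C.Phi_e_f, h2])
  · rw [_root_.map_mul, C.D.rho_Q hq, one_mul, hω]

theorem four_ne (C : U6Ctx z Q) : (C.e : G) ≠ 1 ∧ (C.f : G) ≠ 1 ∧ (C.e : G) ≠ C.f := by
  have h : v2 ≠ 0 ∧ wW v2 ≠ 0 ∧ v2 ≠ wW v2 := by decide +kernel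
  refine ⟨fun e => h.1 ?_, fun e => h.2.1 ?_, fun e => h.2.2 ?_⟩
  · rw [← C.e_img]; exact (C.D.eq_zero _ C.he).2 (Or.inl e)
  · rw [← C.f_img]; exact (C.D.eq_zero _ C.hf').2 (Or.inl e)
  · exact C.e_img.symm.trans ((congrArg C.D.Φ (Subtype.ext e)).trans C.f_img)

theorem four_sq {x : G} (hx : x ∈ C.four) : x * x = 1 := by
  obtain ⟨ee, ff⟩ := C.ef_sq
  rcases C.mem_four.1 hx with rfl | rfl | rfl | rfl
  · exact mul_one 1
  · exact ee
  · exact ff
  · rw [mul_assoc, ← mul_assoc (C.f : G), ← C.commute_ef.eq, mul_assoc, ff, mul_one, ee]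

/-- No member is a twist of another by `z`. -/
theorem no_twist (hu : Over C u i) (ha : AT u) {e' : G} (he' : e' ∈ C.four) :
    (u : G) * z * e' ∉ C.dset := by
  intro h
  have hne : e' ≠ 1 := fun e => ha (by
    rw [e, mul_one] at h
    exact isConj_iff.2 (C.dset_sing h))
  obtain ⟨c, hce, hcf, hcρ⟩ := exists_cycle C
  have ce : (c : G) * C.e * (c : G)⁻¹ = C.f := congrArg Subtype.val hce
  have cf : (c : G) * C.f * (c : G)⁻¹ = C.e * C.f := congrArg Subtype.val hcf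
  obtain ⟨ee, ff⟩ := C.ef_sq
  have hcomm := C.commute_ef.eq
  -- normalises the centraliser
  have hcen : ∀ y ∈ C.cen, (c : G) * y * (c : G)⁻¹ ∈ C.cen := by
    intro y hy
    obtain ⟨y1, y2⟩ := C.mem_cen.1 hy
    have k1 := y1.map (MulAut.conj (c : G)).toMonoidHom
    have k2 := y2.map (MulAut.conj (c : G)).toMonoidHom
    simp only [MulEquiv.coe_toMonoidHom, MulAut.conj_apply, ce, cf] at k1 k2
    refine C.mem_cen.2 ⟨?_, k1⟩
    have := k2.mul_right k1
    rwa [mul_assoc (C.e : G), ff, mul_one] at this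
  have hdset : ∀ y ∈ C.dset, (c : G) * y * (c : G)⁻¹ ∈ C.dset := by
    rintro y ⟨g, hg, rfl⟩
    refine ⟨(c : G) * g * (c : G)⁻¹, hcen g hg, ?_⟩
    calc (c : G) * g * (↑c)⁻¹ * z * (↑c * g * (↑c)⁻¹)⁻¹
        = ↑c * g * ((↑c)⁻¹ * (z * ↑c)) * g⁻¹ * (↑c)⁻¹ := by group
      _ = ↑c * (g * z * g⁻¹) * (↑c)⁻¹ := by rw [← cz_z c]; group
  -- the image of `u`
  have hcu : Over C (c * u * c⁻¹) i := by
    refine ⟨⟨?_, fun e => hu.mem.2.1 ?_, cz_z _⟩, ?_⟩
    · rw [Subgroup.coe_mul, Subgroup.coe_mul, Subgroup.coe_inv]; exact hdset _ hu.mem.1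
    · rw [Subgroup.coe_mul, Subgroup.coe_mul, Subgroup.coe_inv, mul_inv_eq_iff_eq_mul, ← cz_z c] at e
      exact mul_left_cancel e
    · rw [_root_.map_mul, _root_.map_mul, map_inv, hu.rho, mul_inv_eq_iff_eq_mul]
      refine Equiv.ext fun v => ?_
      rw [Equiv.Perm.mul_apply, Equiv.Perm.mul_apply, hcρ, tv_wW]
  obtain ⟨r, -, hrc, hcases⟩ := fibre_cases hu ha hcu
  -- the action on the four-group
  have hσ4 : (c : G) * e' * (c : G)⁻¹ ∈ C.four ∧ (c : G) * e' * (c : G)⁻¹ ≠ e' := by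
    obtain ⟨n1, n2, n3⟩ := four_ne C
    rcases C.mem_four.1 he' with rfl | rfl | rfl | rfl
    · exact absurd rfl hne
    · rw [ce]; exact ⟨C.mem_four.2 (by simp), n3.symm⟩
    · rw [cf]; exact ⟨C.mem_four.2 (by simp), fun e => n1 (mul_eq_right.1 e)⟩
    · have e2 : (c : G) * (C.e * C.f) * (c : G)⁻¹ = C.e := by
        calc (c : G) * (C.e * C.f) * (c : G)⁻¹ = (↑c * ↑C.e * (↑c)⁻¹) * (↑c * ↑C.f * (↑c)⁻¹) := by group
          _ = C.e := by rw [ce, cf, hcomm, ← mul_assoc, ff, one_mul]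
      rw [e2]; exact ⟨C.mem_four.2 (by simp), fun e => n2 (mul_eq_left.1 e.symm)⟩
  set σ := (c : G) * e' * (c : G)⁻¹ with hσ
  obtain ⟨hσ4, hσne⟩ := hσ4
  -- the corrected element
  set d := (r : G)⁻¹ * c with hd
  have hdd : ∀ y ∈ C.dset, d * y * d⁻¹ ∈ C.dset := by
    intro y hy
    have := C.dset_conj (inv_mem hrc) (hdset y hy)
    rw [hd]
    convert this using 1
    group
  have hde : d * e' * d⁻¹ = σ := by
    calc d * e' * d⁻¹ = (r : G)⁻¹ * σ * r := by rw [hd, hσ]; group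
      _ = σ := by rw [mul_assoc, ← C.commute_four hrc hσ4, inv_mul_cancel_left]
  have hdz : d * z * d⁻¹ = z := by
    rw [mul_inv_eq_iff_eq_mul]
    exact cz_z (r⁻¹ * c)
  have hdu : d * (u : G) * d⁻¹ = (r : G)⁻¹ * ((c * u * c⁻¹ : _) : G) * r := by
    simp only [hd, Subgroup.coe_mul, Subgroup.coe_inv]
    group
  have hee : e' * e' = 1 := four_sq he'
  have h' := hdd _ h
  rw [show d * ((u : G) * z * e') * d⁻¹ = (d * (u : G) * d⁻¹) * (d * z * d⁻¹) * (d * e' * d⁻¹) by group,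
    hdz, hde, hdu] at h'
  have hprod : e' * σ ∈ C.four := mul_mem he' hσ4
  have hfin : e' * σ ≠ 1 := fun e => hσne ((inv_eq_of_mul_eq_one_right hee).symm.trans
    (inv_eq_of_mul_eq_one_right e)).symm
  rcases hcases with hc | ⟨e'', he'', hc⟩
  · rw [hc, show (r : G)⁻¹ * ((r * u * r⁻¹ : _) : G) * r = u by
      simp only [Subgroup.coe_mul, Subgroup.coe_inv]; group] at h'
    refine hfin (C.dset_unique h hprod ?_)
    rwa [← mul_assoc, mul_assoc _ e' e', hee, mul_one]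
  · have h2 : (u : G) * z * e'' ∈ C.dset := by
      rw [← hc]
      have := C.dset_conj (inv_mem hrc) hcu.mem.1
      rwa [inv_inv] at this
    have hee'' : e'' = e' := by
      have h3 := C.dset_unique h (mul_mem he' he'') (by rwa [← mul_assoc, mul_assoc _ e' e', hee, mul_one])
      exact ((inv_eq_of_mul_eq_one_right h3).symm.trans (inv_eq_of_mul_eq_one_right hee))
    subst hee''
    rw [hc] at h'
    refine hfin (C.dset_unique hu.mem.1 hprod ?_)
    have hze : e'' * z = z * e'' := (C.commute_four C.z_mem_cen he'').symm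
    rwa [show (u : G) * z * e'' * z * σ = u * (z * (e'' * z)) * σ by group, hze, ← mul_assoc z,
      C.z_sq, one_mul, mul_assoc] at h'

theorem fibre_orbit (hu : Over C u i) (ha : AT u) (hw : Over C w i) :
    ∃ r ∈ Q, (r : G) ∈ C.cen ∧ w = r * u * r⁻¹ := by
  obtain ⟨r, hr, hrc, h | ⟨e', he', h⟩⟩ := fibre_cases hu ha hw
  · exact ⟨r, hr, hrc, h⟩
  · refine absurd ?_ (no_twist hu ha he')
    rw [← h]
    have := C.dset_conj (inv_mem hrc) hw.mem.1
    rwa [inv_inv] at this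

end H7.U6Fibre
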